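import Mathlib
import Cfsg.Agent.H613.ContribVal

/-!
# Sums of roots of unity of `2`-power order and their averages over the odd exponents

`w j` is a primitive `2 ^ (j + 1)`-th root of unity; `ev j a k = ∑_{m < 2 ^ j} a m * w j ^ (m k)`.
The average of `ev j a k` over the odd `k` is `a 0`, the average of `‖ev j a k‖ ^ 2` is
`∑ (a m) ^ 2`; every sum `∑ c i * z i ^ k` (`c i` integers, `z i ^ 2 ^ (j + 1) = 1`) is of this
form; divisibility of `ev j a 1` by `2 ^ h` in the local ring at `M` gives divisibility of all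
coefficients.
-/

set_option autoImplicit false

open Cfsg
open scoped ComplexConjugate

namespace Cfsg.Agent.H617.TwoAvg

open Cfsg.Agent.Blocks.Blau Cfsg.Agent.Blocks.Local Cfsg.Agent.Characters
open Cfsg.Agent.H613.RegGram Cfsg.Agent.H613.Contrib Cfsg.Agent.H613.ContribVal

/-- The odd exponents below `2 ^ j`. -/
def oddSet (j : ℕ) : Finset ℕ := (Finset.range (2 ^ j)).filter fun k => Odd k

theorem mem_oddSet {j k : ℕ} : k ∈ oddSet j ↔ k < 2 ^ j ∧ Odd k := by
  simp [oddSet]

theorem oddSet_eq_image (j : ℕ) :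
    oddSet (j + 1) = (Finset.range (2 ^ j)).image fun m => 2 * m + 1 := by
  ext k
  rw [mem_oddSet, Finset.mem_image]
  constructor
  · rintro ⟨h1, m, hm⟩
    refine ⟨m, ?_, hm.symm⟩
    rw [Finset.mem_range]
    rw [pow_succ] at h1
    omega
  · rintro ⟨m, hm, rfl⟩
    rw [Finset.mem_range] at hm
    refine ⟨?_, m, rfl⟩
    rw [pow_succ]
    omega

theorem sum_oddSet {A : Type*} [AddCommMonoid A] (j : ℕ) (f : ℕ → A) :
    ∑ k ∈ oddSet (j + 1), f k = ∑ m ∈ Finset.range (2 ^ j), f (2 * m + 1) := by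
  rw [oddSet_eq_image, Finset.sum_image]
  intro a _ b _ h
  simpa using h

theorem card_oddSet (j : ℕ) : (oddSet (j + 1)).card = 2 ^ j := by
  rw [Finset.card_eq_sum_ones, sum_oddSet]
  simp

/-- Sum of the odd powers of a root of unity. -/
theorem sum_pow_oddSet {j : ℕ} {z : ℂ} (hz : z ^ 2 ^ (j + 1) = 1) (h1 : z ≠ 1) (h2 : z ≠ -1) :
    ∑ k ∈ oddSet (j + 1), z ^ k = 0 := by
  rw [sum_oddSet]
  have h3 : ∀ m : ℕ, z ^ (2 * m + 1) = z * (z ^ 2) ^ m := fun m => by
    rw [pow_succ, pow_mul, mul_comm]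
  simp only [h3]
  rw [← Finset.mul_sum]
  have h4 : z ^ 2 ≠ 1 := by
    intro h
    rcases mul_self_eq_one_iff.1 ((pow_two _).symm.trans h) with h | h
    · exact h1 h
    · exact h2 h
  have h5 : (∑ i ∈ Finset.range (2 ^ j), (z ^ 2) ^ i) * (z ^ 2 - 1) = 0 := by
    rw [geom_sum_mul, ← pow_mul, ← pow_succ', hz, sub_self]
  rcases mul_eq_zero.1 h5 with h | h
  · rw [h, mul_zero]
  · exact absurd (sub_eq_zero.1 h) h4

/-- A primitive `2 ^ (j + 1)`-th root of unity. -/
noncomputable def w (j : ℕ) : ℂ :=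
  Complex.exp (2 * Real.pi * Complex.I / ((2 ^ (j + 1) : ℕ) : ℂ))

theorem isPrimitiveRoot_w (j : ℕ) : IsPrimitiveRoot (w j) (2 ^ (j + 1)) :=
  Complex.isPrimitiveRoot_exp _ (pow_ne_zero _ two_ne_zero)

theorem w_pow_card (j : ℕ) : w j ^ 2 ^ (j + 1) = 1 := (isPrimitiveRoot_w j).pow_eq_one

theorem w_pow_half (j : ℕ) : w j ^ 2 ^ j = -1 := by
  have h1 : (w j ^ 2 ^ j) ^ 2 = 1 := by
    rw [← pow_mul, ← pow_succ, w_pow_card]
  rcases mul_self_eq_one_iff.1 ((pow_two _).symm.trans h1) with h | h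
  · exfalso
    have h2 := (isPrimitiveRoot_w j).dvd_of_pow_eq_one _ h
    have h3 := Nat.le_of_dvd (by positivity) h2
    rw [pow_succ] at h3
    have : 0 < 2 ^ j := by positivity
    omega
  · exact h

theorem w_ne_zero (j : ℕ) : w j ≠ 0 := by
  intro h
  have h1 := w_pow_card j
  rw [h, zero_pow (pow_ne_zero _ two_ne_zero)] at h1
  exact zero_ne_one h1

theorem norm_w (j : ℕ) : ‖w j‖ = 1 :=
  Complex.norm_eq_one_of_pow_eq_one (w_pow_card j) (pow_ne_zero _ two_ne_zero)

theorem conj_w (j : ℕ) : conj (w j) = (w j)⁻¹ := by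
  rw [Complex.inv_def, Complex.normSq_eq_norm_sq, norm_w]
  simp

theorem conj_w_pow (j n : ℕ) : conj (w j ^ n) = (w j ^ n)⁻¹ := by
  rw [map_pow, conj_w, inv_pow]

/-- Orthogonality of the powers `w ^ m`, `m < 2 ^ j`, over the odd exponents. -/
theorem sum_w_pow {j m n : ℕ} (hm : m < 2 ^ j) (hn : n < 2 ^ j) :
    ∑ k ∈ oddSet (j + 1), w j ^ (m * k) * conj (w j ^ (n * k)) =
      if m = n then (2 ^ j : ℂ) else 0 := by
  have h1 : ∀ k, w j ^ (m * k) * conj (w j ^ (n * k)) = (w j ^ m * (w j ^ n)⁻¹) ^ k := by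
    intro k
    rw [conj_w_pow, mul_pow, inv_pow, ← pow_mul, ← pow_mul]
  simp only [h1]
  split_ifs with h
  · subst h
    rw [mul_inv_cancel₀ (pow_ne_zero _ (w_ne_zero j))]
    simp only [one_pow, Finset.sum_const, card_oddSet, nsmul_eq_mul, mul_one]
    push_cast
    rfl
  · have hprim := isPrimitiveRoot_w j
    refine sum_pow_oddSet ?_ ?_ ?_
    · rw [mul_pow, inv_pow, ← pow_mul, ← pow_mul, mul_comm m, mul_comm n, pow_mul, pow_mul,
        w_pow_card, one_pow, one_pow]
      simp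
    · intro h2
      have h3 : w j ^ m = w j ^ n := by
        rw [mul_inv_eq_one₀ (pow_ne_zero _ (w_ne_zero j))] at h2
        exact h2
      exact h (hprim.pow_inj (by rw [pow_succ]; omega) (by rw [pow_succ]; omega) h3)
    · intro h2
      have h3 : w j ^ m = w j ^ (2 ^ j + n) := by
        rw [pow_add, w_pow_half]
        rw [mul_inv_eq_iff_eq_mul₀ (pow_ne_zero _ (w_ne_zero j))] at h2
        exact h2
      have h4 := hprim.pow_inj (by rw [pow_succ]; omega) (by rw [pow_succ]; omega) h3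
      omega

/-- The value attached to the coefficients `a` and the exponent `k`. -/
noncomputable def ev (j : ℕ) (a : ℕ → ℤ) (k : ℕ) : ℂ :=
  ∑ m ∈ Finset.range (2 ^ j), (a m : ℂ) * w j ^ (m * k)

theorem ev_def (j : ℕ) (a : ℕ → ℤ) (k : ℕ) :
    ev j a k = ∑ m ∈ Finset.range (2 ^ j), (a m : ℂ) * w j ^ (m * k) := rfl

theorem sum_ev_mul (j : ℕ) (a : ℕ → ℤ) {n : ℕ} (hn : n < 2 ^ j) :
    ∑ k ∈ oddSet (j + 1), ev j a k * conj (w j ^ (n * k)) = 2 ^ j * (a n : ℂ) := by
  simp only [ev_def, Finset.sum_mul]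
  rw [Finset.sum_comm]
  have h1 : ∀ m ∈ Finset.range (2 ^ j), ∑ k ∈ oddSet (j + 1),
      (a m : ℂ) * w j ^ (m * k) * conj (w j ^ (n * k)) =
        if m = n then 2 ^ j * (a n : ℂ) else 0 := by
    intro m hm
    simp only [mul_assoc]
    rw [← Finset.mul_sum, sum_w_pow (Finset.mem_range.1 hm) hn]
    split_ifs with h
    · rw [h, mul_comm]
    · rw [mul_zero]
  rw [Finset.sum_congr rfl h1]
  simp [hn]

/-- The average of `ev` is the constant coefficient. -/
theorem sum_ev (j : ℕ) (a : ℕ → ℤ) :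
    ∑ k ∈ oddSet (j + 1), ev j a k = 2 ^ j * (a 0 : ℂ) := by
  have h := sum_ev_mul j a (n := 0) (by positivity)
  simpa using h

/-- Parseval. -/
theorem sum_ev_mul_conj (j : ℕ) (a : ℕ → ℤ) :
    ∑ k ∈ oddSet (j + 1), ev j a k * conj (ev j a k) =
      2 ^ j * ((∑ m ∈ Finset.range (2 ^ j), a m ^ 2 : ℤ) : ℂ) := by
  have h1 : ∀ k, ev j a k * conj (ev j a k) =
      ∑ m ∈ Finset.range (2 ^ j), (a m : ℂ) * (ev j a k * conj (w j ^ (m * k))) := by
    intro k
    conv_lhs => rw [ev_def j a k, map_sum, Finset.mul_sum]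
    refine Finset.sum_congr rfl fun m _ => ?_
    rw [map_mul, ← ev_def]
    simp only [map_intCast]
    ring
  simp only [h1]
  rw [Finset.sum_comm]
  push_cast
  rw [Finset.mul_sum]
  refine Finset.sum_congr rfl fun m hm => ?_
  rw [← Finset.mul_sum, sum_ev_mul j a (Finset.mem_range.1 hm)]
  ring

theorem sum_norm_sq_ev (j : ℕ) (a : ℕ → ℤ) :
    ∑ k ∈ oddSet (j + 1), ‖ev j a k‖ ^ 2 =
      2 ^ j * ((∑ m ∈ Finset.range (2 ^ j), a m ^ 2 : ℤ) : ℝ) := by
  have h1 := sum_ev_mul_conj j a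
  have h2 : ∀ k, ev j a k * conj (ev j a k) = ((‖ev j a k‖ ^ 2 : ℝ) : ℂ) := by
    intro k
    rw [Complex.mul_conj, Complex.normSq_eq_norm_sq]
  simp only [h2] at h1
  rw [← Complex.ofReal_sum] at h1
  exact_mod_cast h1

/-- Uniqueness of the coefficients. -/
theorem coeff_eq_of_ev_eq {j : ℕ} {a b : ℕ → ℤ}
    (h : ∀ k ∈ oddSet (j + 1), ev j a k = ev j b k) {m : ℕ} (hm : m < 2 ^ j) : a m = b m := by
  have h1 := sum_ev_mul j a hm
  have h2 := sum_ev_mul j b hm
  rw [Finset.sum_congr rfl fun k hk => by rw [h k hk], h2] at h1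
  have h3 : (2 ^ j : ℂ) ≠ 0 := pow_ne_zero _ two_ne_zero
  have h4 := mul_left_cancel₀ h3 h1
  exact_mod_cast h4.symm

theorem ev_congr {j : ℕ} {a b : ℕ → ℤ} (h : ∀ m < 2 ^ j, a m = b m) (k : ℕ) :
    ev j a k = ev j b k :=
  Finset.sum_congr rfl fun m hm => by rw [h m (Finset.mem_range.1 hm)]

/-- A single root of unity. -/
theorem exists_ev_pow {j : ℕ} {z : ℂ} (hz : z ^ 2 ^ (j + 1) = 1) :
    ∃ a : ℕ → ℤ, ∀ k, Odd k → z ^ k = ev j a k := by
  obtain ⟨r, hr, rfl⟩ := (isPrimitiveRoot_w j).eq_pow_of_pow_eq_one hz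
  rcases Nat.lt_or_ge r (2 ^ j) with h | h
  · refine ⟨fun m => if m = r then 1 else 0, fun k _ => ?_⟩
    rw [ev_def, Finset.sum_eq_single r]
    · rw [if_pos rfl, Int.cast_one, one_mul, pow_mul]
    · intro m _ hm
      rw [if_neg hm]; simp
    · intro h'
      exact absurd (Finset.mem_range.2 h) h'
  · have hr' : r - 2 ^ j < 2 ^ j := by
      rw [pow_succ] at hr; omega
    refine ⟨fun m => if m = r - 2 ^ j then -1 else 0, fun k hk => ?_⟩
    rw [ev_def, Finset.sum_eq_single (r - 2 ^ j)]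
    · rw [if_pos rfl, pow_mul]
      have h1 : w j ^ r = -(w j ^ (r - 2 ^ j)) := by
        conv_lhs => rw [show r = (r - 2 ^ j) + 2 ^ j by omega, pow_add, w_pow_half]
        ring
      rw [h1, hk.neg_pow]
      push_cast
      ring
    · intro m _ hm
      rw [if_neg hm]; simp
    · intro h'
      exact absurd (Finset.mem_range.2 hr') h'

/-- Every integral combination of roots of unity is an `ev`. -/
theorem exists_ev_sum {ι : Type*} (s : Finset ι) {j : ℕ} (c : ι → ℤ) (z : ι → ℂ)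
    (hz : ∀ i ∈ s, z i ^ 2 ^ (j + 1) = 1) :
    ∃ a : ℕ → ℤ, ∀ k, Odd k → ∑ i ∈ s, (c i : ℂ) * z i ^ k = ev j a k := by
  have h1 : ∀ i : s, ∃ a : ℕ → ℤ, ∀ k, Odd k → z i ^ k = ev j a k := fun i =>
    exists_ev_pow (hz i i.2)
  choose a ha using h1
  refine ⟨fun m => ∑ i : s, c i * a i m, fun k hk => ?_⟩
  rw [← Finset.sum_coe_sort s, ev_def]
  push_cast
  simp only [Finset.sum_mul]
  rw [Finset.sum_comm]
  refine Finset.sum_congr rfl fun i _ => ?_
  rw [ha i k hk, ev_def, Finset.mul_sum]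
  exact Finset.sum_congr rfl fun m _ => by ring

/-- Real values: the sum of the coefficients is the constant one. -/
theorem sum_eq_of_real {j : ℕ} {a : ℕ → ℤ}
    (h : ∀ k ∈ oddSet (j + 1), conj (ev j a k) = ev j a k) :
    ∑ m ∈ Finset.range (2 ^ j), a m = a 0 := by
  -- `conj (ev a k) = ev b k` with `b 0 = a 0`, `b m = - a (N - m)`
  have hpos : 0 < 2 ^ j := by positivity
  obtain ⟨N, hN⟩ : ∃ N, 2 ^ j = N + 1 := ⟨2 ^ j - 1, by omega⟩
  let b : ℕ → ℤ := fun m => if m = 0 then a 0 else - a (2 ^ j - m)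
  have hb0 : b 0 = a 0 := if_pos rfl
  have hbs : ∀ m, b (m + 1) = - a (2 ^ j - (m + 1)) := fun m => if_neg (Nat.succ_ne_zero m)
  have h1 : ∀ k, Odd k → conj (ev j a k) = ev j b k := by
    intro k hk
    rw [ev_def, ev_def, map_sum, hN, Finset.sum_range_succ', Finset.sum_range_succ',
      ← Finset.sum_range_reflect]
    congr 1
    · refine Finset.sum_congr rfl fun m hm => ?_
      rw [Finset.mem_range] at hm
      have h2 : N - 1 - m + 1 = 2 ^ j - (m + 1) := by omega
      rw [h2, hbs, map_mul, map_intCast, conj_w_pow]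
      have h4 : w j ^ ((2 ^ j - (m + 1)) * k) * w j ^ ((m + 1) * k) = -1 := by
        rw [← pow_add, ← add_mul, Nat.sub_add_cancel (by omega), pow_mul, w_pow_half,
          hk.neg_one_pow]
      have h5 : (w j ^ ((2 ^ j - (m + 1)) * k))⁻¹ = - w j ^ ((m + 1) * k) := by
        rw [inv_eq_iff_eq_inv, eq_comm, inv_eq_of_mul_eq_one_left]
        rw [mul_neg, h4, neg_neg]
      rw [h5]
      push_cast
      ring
    · simp [hb0]
  have h6 : ∀ m < 2 ^ j, a m = b m := fun m hm => coeff_eq_of_ev_eq (fun k hk => by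
    rw [← h1 k (mem_oddSet.1 hk).2, h k hk]) hm
  have h7 : ∑ m ∈ Finset.range N, a (m + 1) = 0 := by
    have h8 : ∑ m ∈ Finset.range N, a (m + 1) = - ∑ m ∈ Finset.range N, a (m + 1) := by
      conv_lhs => rw [Finset.sum_congr rfl fun m hm => by
        rw [h6 (m + 1) (by rw [Finset.mem_range] at hm; omega), hbs], ← Finset.sum_range_reflect]
      rw [← Finset.sum_neg_distrib]
      refine Finset.sum_congr rfl fun m hm => ?_
      rw [Finset.mem_range] at hm
      congr 2
      omega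
    omega
  rw [hN, Finset.sum_range_succ', h7, zero_add]

section modular

variable {M : Ideal AlgInt}

theorem memLocalIdeal_w_pow_sub_one (hM : IsPModular 2 M) (j n : ℕ) :
    MemLocalIdeal M (w j ^ n - 1) := by
  refine memLocalIdeal_root_sub_one hM (j := j + 1) ?_
  rw [← pow_mul, mul_comm, pow_mul, w_pow_card, one_pow]

theorem memLocalIdeal_ev_sub (hM : IsPModular 2 M) (j : ℕ) (a : ℕ → ℤ) (k : ℕ) :
    MemLocalIdeal M (ev j a k - ((∑ m ∈ Finset.range (2 ^ j), a m : ℤ) : ℂ)) := by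
  have := isPrime_of_isPModular hM
  rw [ev_def]
  push_cast
  refine memLocalIdeal_sum_sub_sum fun m _ => ?_
  have h := memLocalIdeal_mul_left (memLocalRing_intCast (M := M) (a m))
    (memLocalIdeal_w_pow_sub_one hM j (m * k))
  convert h using 1
  ring

theorem memLocalIdeal_ev_iff (hM : IsPModular 2 M) (j : ℕ) (a : ℕ → ℤ) (k : ℕ) :
    MemLocalIdeal M (ev j a k) ↔ (2 : ℤ) ∣ ∑ m ∈ Finset.range (2 ^ j), a m := by
  have := isPrime_of_isPModular hM
  rw [memLocalIdeal_iff_of_sub (memLocalIdeal_ev_sub hM j a k), memLocalIdeal_intCast_iff hM]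
  rfl

theorem memLocalRing_w_sub_one (hM : IsPModular 2 M) (j : ℕ) : MemLocalIdeal M (w j - 1) := by
  have h := memLocalIdeal_w_pow_sub_one hM j 1
  rwa [pow_one] at h

/-- `(w - 1) ^ 2 ^ j = - 2 * unit`. -/
theorem exists_pi_pow (hM : IsPModular 2 M) (j : ℕ) :
    ∃ y : ℂ, MemLocalIdeal M y ∧ (w j - 1) ^ 2 ^ j = -2 * (1 + y) := by
  have := isPrime_of_isPModular hM
  have hpi := memLocalRing_w_sub_one hM j
  have hpos : 0 < 2 ^ j := by positivity
  obtain ⟨N, hN⟩ : ∃ N, 2 ^ j = N + 1 := ⟨2 ^ j - 1, by omega⟩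
  refine ⟨∑ i ∈ Finset.range N, (w j - 1) ^ (i + 1) * (((2 ^ j).choose (i + 1) / 2 : ℕ) : ℂ),
    ?_, ?_⟩
  · refine memLocalIdeal_sum fun i _ => memLocalIdeal_mul_right ?_ (memLocalRing_natCast _)
    exact memLocalIdeal_pow hpi (Nat.succ_ne_zero _)
  · have h1 := add_pow (w j - 1) 1 (2 ^ j)
    rw [sub_add_cancel, w_pow_half, hN, Finset.sum_range_succ, Finset.sum_range_succ'] at h1
    simp only [one_pow, mul_one, Nat.choose_self, Nat.cast_one, pow_zero, Nat.choose_zero_right]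
      at h1
    rw [← hN] at h1
    have h2 : ∀ i ∈ Finset.range N, (w j - 1) ^ (i + 1) * ((2 ^ j).choose (i + 1) : ℂ) =
        2 * ((w j - 1) ^ (i + 1) * (((2 ^ j).choose (i + 1) / 2 : ℕ) : ℂ)) := by
      intro i hi
      rw [Finset.mem_range] at hi
      have h3 : 2 ∣ (2 ^ j).choose (i + 1) :=
        Nat.prime_two.dvd_choose_pow (Nat.succ_ne_zero _) (by omega)
      obtain ⟨c, hc⟩ := h3
      rw [hc, Nat.mul_div_cancel_left _ (by norm_num)]
      push_cast
      ring
    rw [Finset.sum_congr rfl h2, ← Finset.mul_sum] at h1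
    linear_combination -h1

/-- Even coefficients in the basis of the powers of `w - 1`. -/
theorem even_of_pi (hM : IsPModular 2 M) {j : ℕ} {b : ℕ → ℤ}
    (h : MemLocalRing M ((∑ m ∈ Finset.range (2 ^ j), (b m : ℂ) * (w j - 1) ^ m) / 2)) :
    ∀ m < 2 ^ j, (2 : ℤ) ∣ b m := by
  have := isPrime_of_isPModular hM
  have hpi := memLocalRing_w_sub_one hM j
  have hpiR := memLocalRing_of_memLocalIdeal hpi
  intro m
  induction m using Nat.strong_induction_on with
  | _ m ih =>
    intro hm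
    by_contra hodd
    obtain ⟨y, hy, hpw⟩ := exists_pi_pow hM j
    -- split the sum
    have h1 : ∑ i ∈ Finset.range (2 ^ j), (b i : ℂ) * (w j - 1) ^ i =
        ∑ i ∈ Finset.range m, (b i : ℂ) * (w j - 1) ^ i +
          (w j - 1) ^ m * (b m + (w j - 1) * ∑ i ∈ Finset.range (2 ^ j - (m + 1)),
            (b (m + 1 + i) : ℂ) * (w j - 1) ^ i) := by
      have e1 : 2 ^ j = m + (1 + (2 ^ j - (m + 1))) := by omega
      conv_lhs => rw [e1, Finset.sum_range_add, Finset.sum_range_add, Finset.sum_range_one]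
      congr 1
      rw [add_zero, mul_add]
      congr 1
      · ring
      · rw [Finset.mul_sum, Finset.mul_sum]
        refine Finset.sum_congr rfl fun i _ => ?_
        rw [add_assoc]
        ring
    have h2 : MemLocalRing M ((∑ i ∈ Finset.range m, (b i : ℂ) * (w j - 1) ^ i) / 2) := by
      rw [Finset.sum_div]
      refine memLocalRing_sum fun i hi => ?_
      rw [Finset.mem_range] at hi
      obtain ⟨c, hc⟩ := ih i hi (hi.trans hm)
      rw [hc]
      have e2 : (((2 * c : ℤ) : ℂ) * (w j - 1) ^ i) / 2 = (c : ℂ) * (w j - 1) ^ i := by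
        push_cast; ring
      rw [e2]
      exact memLocalRing_mul (memLocalRing_intCast _) (memLocalRing_pow hpiR _)
    set u : ℂ := (b m : ℂ) + (w j - 1) * ∑ i ∈ Finset.range (2 ^ j - (m + 1)),
            (b (m + 1 + i) : ℂ) * (w j - 1) ^ i with hu
    have hsum : MemLocalRing M (∑ i ∈ Finset.range (2 ^ j - (m + 1)),
            (b (m + 1 + i) : ℂ) * (w j - 1) ^ i) :=
      memLocalRing_sum fun i _ =>
        memLocalRing_mul (memLocalRing_intCast _) (memLocalRing_pow hpiR _)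
    have huR : MemLocalRing M u := memLocalRing_add (memLocalRing_intCast _)
      (memLocalRing_mul hpiR hsum)
    have huu : ¬ MemLocalIdeal M u := by
      have e3 : MemLocalIdeal M (u - (b m : ℂ)) := by
        rw [hu]
        have := memLocalIdeal_mul_right hpi hsum
        convert this using 1
        ring
      rw [memLocalIdeal_iff_of_sub e3, memLocalIdeal_intCast_iff hM]
      exact hodd
    have h3 : MemLocalRing M ((w j - 1) ^ m / 2) := by
      have h4 : MemLocalRing M ((w j - 1) ^ m * u / 2) := by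
        have h5 := memLocalRing_sub h h2
        rw [h1] at h5
        convert h5 using 1
        ring
      have h6 := memLocalRing_mul h4 (memLocalRing_inv huR huu)
      have hu0 : u ≠ 0 := ne_zero_of_not_memLocalIdeal huu
      convert h6 using 1
      field_simp
    -- multiply by `(w - 1) ^ (N - m)`
    have h7 : MemLocalIdeal M ((w j - 1) ^ (2 ^ j - m) * ((w j - 1) ^ m / 2)) :=
      memLocalIdeal_mul_right (memLocalIdeal_pow hpi (by omega)) h3
    have h8 : (w j - 1) ^ (2 ^ j - m) * ((w j - 1) ^ m / 2) = -(1 + y) := by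
      rw [← mul_div_assoc, ← pow_add, Nat.sub_add_cancel hm.le, hpw]
      ring
    rw [h8, memLocalIdeal_neg_iff] at h7
    have h9 := memLocalIdeal_sub h7 hy
    rw [add_sub_cancel_right] at h9
    exact not_memLocalIdeal_one h9

open Polynomial in
/-- If `ev j a 1` is twice a local integer then all coefficients are even. -/
theorem even_of_half (hM : IsPModular 2 M) {j : ℕ} {a : ℕ → ℤ}
    (h : MemLocalRing M (ev j a 1 / 2)) : ∀ m < 2 ^ j, (2 : ℤ) ∣ a m := by
  let P : ℤ[X] := ∑ m ∈ Finset.range (2 ^ j), C (a m) * X ^ m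
  have hcoeff : ∀ m < 2 ^ j, P.coeff m = a m := by
    intro m hm
    simp only [P, finsetSum_coeff, coeff_C_mul, coeff_X_pow]
    rw [Finset.sum_eq_single m]
    · simp
    · intro b _ hb
      rw [if_neg (fun h => hb h.symm), mul_zero]
    · intro h'
      exact absurd (Finset.mem_range.2 hm) h'
  have hdeg : P.degree < (2 ^ j : ℕ) := by
    refine (degree_sum_le _ _).trans_lt ?_
    rw [Finset.sup_lt_iff (WithBot.bot_lt_coe _)]
    intro m hm
    refine (degree_C_mul_X_pow_le _ _).trans_lt ?_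
    exact_mod_cast Finset.mem_range.1 hm
  let Q : ℤ[X] := P.comp (X + 1)
  have hdegQ : Q.natDegree < 2 ^ j := by
    have h1 : P.natDegree < 2 ^ j := by
      rcases eq_or_ne P 0 with h0 | h0
      · rw [h0, natDegree_zero]; positivity
      · exact (natDegree_lt_iff_degree_lt h0).2 hdeg
    refine lt_of_le_of_lt natDegree_comp_le ?_
    have h2 : (X + 1 : ℤ[X]).natDegree = 1 := by
      have := natDegree_X_add_C (1 : ℤ)
      simpa using this
    rw [h2, mul_one]
    exact h1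
  have hQ : aeval (w j - 1) Q = ev j a 1 := by
    simp only [Q, aeval_comp, map_add, aeval_X, map_one, sub_add_cancel]
    simp only [P, map_sum, map_mul, map_pow, aeval_X, aeval_C, ev_def, mul_one]
    rfl
  have hQ2 : aeval (w j - 1) Q = ∑ m ∈ Finset.range (2 ^ j), (Q.coeff m : ℂ) * (w j - 1) ^ m := by
    rw [aeval_eq_sum_range' hdegQ]
    refine Finset.sum_congr rfl fun m _ => ?_
    rw [zsmul_eq_mul]
  have h3 := even_of_pi hM (j := j) (b := fun m => Q.coeff m) (by rw [← hQ2, hQ]; exact h)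
  have h4 : (C (2 : ℤ)) ∣ Q := by
    rw [C_dvd_iff_dvd_coeff]
    intro m
    rcases Nat.lt_or_ge m (2 ^ j) with hm | hm
    · exact h3 m hm
    · rw [coeff_eq_zero_of_natDegree_lt (hdegQ.trans_le hm)]
      exact dvd_zero _
  have h5 : P = Q.comp (X - 1) := by
    simp only [Q, comp_assoc, add_comp, X_comp, one_comp, sub_add_cancel, comp_X]
  have h6 : (C (2 : ℤ)) ∣ P := by
    obtain ⟨R, hR⟩ := h4
    rw [h5, hR, mul_comp, C_comp]
    exact dvd_mul_right _ _
  rw [C_dvd_iff_dvd_coeff] at h6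
  intro m hm
  rw [← hcoeff m hm]
  exact h6 m

theorem ev_two_mul (j : ℕ) (a : ℕ → ℤ) (k : ℕ) : ev j (fun m => 2 * a m) k = 2 * ev j a k := by
  rw [ev_def, ev_def, Finset.mul_sum]
  refine Finset.sum_congr rfl fun m _ => ?_
  push_cast
  ring

theorem ev_pow_mul (j : ℕ) (a : ℕ → ℤ) (h k : ℕ) :
    ev j (fun m => 2 ^ h * a m) k = 2 ^ h * ev j a k := by
  rw [ev_def, ev_def, Finset.mul_sum]
  refine Finset.sum_congr rfl fun m _ => ?_
  push_cast
  ring

/-- If `ev j a 1 / 2 ^ h` is a local integer then `2 ^ h` divides all coefficients. -/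
theorem exists_ev_div (hM : IsPModular 2 M) {j : ℕ} (h : ℕ) {a : ℕ → ℤ}
    (ha : MemLocalRing M (ev j a 1 / 2 ^ h)) :
    ∃ b : ℕ → ℤ, ∀ m < 2 ^ j, a m = 2 ^ h * b m := by
  have := isPrime_of_isPModular hM
  induction h generalizing a with
  | zero => exact ⟨a, fun m _ => by rw [pow_zero, one_mul]⟩
  | succ h ih =>
    have h1 : MemLocalRing M (ev j a 1 / 2) := by
      have h2 := memLocalRing_mul ha (memLocalRing_pow (M := M) (memLocalRing_natCast 2) h)
      convert h2 using 1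
      rw [pow_succ]
      push_cast
      field_simp
    have h3 := even_of_half hM h1
    have h4 : ∀ m < 2 ^ j, a m = 2 * (a m / 2) := fun m hm =>
      (Int.mul_ediv_cancel' (h3 m hm)).symm
    have h5 : ev j a 1 = 2 * ev j (fun m => a m / 2) 1 := by
      rw [← ev_two_mul]
      exact ev_congr h4 1
    obtain ⟨b, hb⟩ := ih (a := fun m => a m / 2) (by
      rw [h5] at ha
      convert ha using 1
      rw [pow_succ]
      field_simp)
    refine ⟨b, fun m hm => ?_⟩
    rw [h4 m hm, hb m hm, pow_succ]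
    ring

end modular

end Cfsg.Agent.H617.TwoAvg
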