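import Mathlib
import Cfsg.Agent.H617.TwoAvg
import Cfsg.Agent.Blocks.GaloisConj

/-!
# Averaged contributions of a `2`-subsection

`u ^ 2 ^ (j + 1) = 1`, `H = C_G(u)`, `b` a block of `H` inducing `B`, `q` the defect of `b`.
There are integers `a χ ψ m` with `2 ^ q * contr 2 (u ^ k) b χ ψ = ev j (a χ ψ) k` for odd `k`;

* `∑_{ψ ∈ B} ∑_m (a χ ψ m) ^ 2 = 2 ^ q * a χ χ 0`;
* `∑_{χ ∈ B} a χ χ 0 = 2 ^ q * l(b)`;
* `a χ χ 0 = ∑_m a χ χ m`;
* `∑_m a χ ψ m` is odd for `χ`, `ψ` of height zero.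
-/

set_option autoImplicit false
set_option linter.unusedSectionVars false

open Cfsg
open scoped ComplexConjugate

namespace Cfsg.Agent.H617.ContrAvg

open Cfsg.Agent.Blocks.Blau Cfsg.Agent.Blocks.Local Cfsg.Agent.Characters
open Cfsg.Agent.H613.RegGram Cfsg.Agent.H613.Contrib Cfsg.Agent.H613.ContribVal
open Cfsg.Agent.H617.TwoAvg

variable {G : Type*} [Group G] [Finite G] {M : Ideal AlgInt}

theorem centralizer_odd_pow {u : G} {j k : ℕ} (hu : u ^ 2 ^ (j + 1) = 1) (hk : Odd k) :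
    Subgroup.centralizer ({u ^ k} : Set G) = Subgroup.centralizer ({u} : Set G) :=
  Cfsg.Agent.Blocks.GaloisConj.centralizer_pow_eq hu
    (Nat.Coprime.pow_right _ (Nat.coprime_two_right.2 hk))

/-- `a χ ψ` are the coefficients of the contributions of the subsections `(u ^ k, b)`. -/
def IsCoeff (u : G) {H : Subgroup G} [Fintype H] (b : Set (IrrCharacter H)) [Fintype b] (j : ℕ)
    (a : IrrCharacter G → IrrCharacter G → ℕ → ℤ) : Prop :=
  ∀ (χ ψ : IrrCharacter G) (k : ℕ), Odd k →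
    (2 : ℂ) ^ blockDefect 2 b * contr 2 (u ^ k) b (χ : G → ℂ) (ψ : G → ℂ) = ev j (a χ ψ) k

/-- The coefficients of the contributions. -/
theorem exists_coeff (hM : IsPModular 2 M) {u : G} {H : Subgroup G} [Fintype H]
    (hH : H = Subgroup.centralizer ({u} : Set G)) {j : ℕ} (hu : u ^ 2 ^ (j + 1) = 1)
    {b : Set (IrrCharacter H)} [Fintype b] (hb : IsPBlock M b) :
    ∃ a : IrrCharacter G → IrrCharacter G → ℕ → ℤ, IsCoeff u b j a := by
  classical
  have : Fact (Nat.Prime 2) := ⟨Nat.prime_two⟩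
  have := Core.finite_irr (G := H)
  have := Fintype.ofFinite (IrrCharacter H)
  obtain ⟨n, e, hE⟩ := exists_exp hH hu
  have hq : 2 ^ (j + 1) ≠ 0 := pow_ne_zero _ two_ne_zero
  have hN : ∀ ξ η : b, ∃ z : ℤ, (2 : ℂ) ^ blockDefect 2 b *
      rg 2 ((ξ : IrrCharacter H) : H → ℂ) ((η : IrrCharacter H) : H → ℂ) = z := by
    intro ξ η
    have := exists_int_rg (p := 2) hM ξ.2 (η : IrrCharacter H)
    exact_mod_cast this
  choose N hN using hN
  have key : ∀ χ ψ : IrrCharacter G, ∃ a : ℕ → ℤ, ∀ k, Odd k →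
      (2 : ℂ) ^ blockDefect 2 b * contr 2 (u ^ k) b (χ : G → ℂ) (ψ : G → ℂ) = ev j a k := by
    intro χ ψ
    obtain ⟨a, ha⟩ := exists_ev_sum (Finset.univ : Finset (b × b)) (j := j)
      (fun x => (n χ x.1 : ℤ) * (n ψ x.2 : ℤ) * N x.1 x.2)
      (fun x => e x.1 * conj (e x.2)) (by
        intro x _
        rw [mul_pow, ← map_pow, hE.root, hE.root, map_one, one_mul])
    refine ⟨a, fun k hk => ?_⟩
    rw [← ha k hk, contr_eq_sum hM hE hb χ ψ (by rw [hH, centralizer_odd_pow hu hk]),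
      Finset.mul_sum, Fintype.sum_prod_type]
    refine Finset.sum_congr rfl fun ξ _ => ?_
    rw [Finset.mul_sum]
    refine Finset.sum_congr rfl fun η _ => ?_
    push_cast
    rw [← hN ξ η]
    ring
  choose a ha using key
  exact ⟨a, ha⟩

section facts

variable {u : G} {H : Subgroup G} [Fintype H] {j : ℕ} {b : Set (IrrCharacter H)} [Fintype b]
  {B : Set (IrrCharacter G)} [Fintype B] {a : IrrCharacter G → IrrCharacter G → ℕ → ℤ}

theorem conj_ev_coeff (ha : IsCoeff u b j a)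
    (χ ψ : IrrCharacter G) {k : ℕ} (hk : Odd k) :
    conj (ev j (a χ ψ) k) = ev j (a ψ χ) k := by
  rw [← ha χ ψ k hk, ← ha ψ χ k hk, map_mul, conj_contr, map_pow, map_ofNat]

/-- The average of the diagonal contribution is the sum of its coefficients. -/
theorem sum_coeff_self (ha : IsCoeff u b j a)
    (χ : IrrCharacter G) : ∑ m ∈ Finset.range (2 ^ j), a χ χ m = a χ χ 0 :=
  sum_eq_of_real fun _ hk => conj_ev_coeff ha χ χ (mem_oddSet.1 hk).2

/-- The averaged diagonal contribution is nonnegative. -/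
theorem coeff_self_nonneg (ha : IsCoeff u b j a)
    (χ : IrrCharacter G) : 0 ≤ a χ χ 0 := by
  have h1 := sum_ev j (a χ χ)
  have h2 : ∀ k ∈ oddSet (j + 1), ev j (a χ χ) k =
      (((2 : ℝ) ^ blockDefect 2 b * ∑ η : b, ‖wt 2 (u ^ k) (χ : G → ℂ) (η : H → ℂ)‖ ^ 2 : ℝ) :
        ℂ) := by
    intro k hk
    rw [← ha χ χ k (mem_oddSet.1 hk).2, contr_self_eq]
    push_cast
    rfl
  rw [Finset.sum_congr rfl h2, ← Complex.ofReal_sum] at h1
  have h3 : (∑ k ∈ oddSet (j + 1), ((2 : ℝ) ^ blockDefect 2 b *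
      ∑ η : b, ‖wt 2 (u ^ k) (χ : G → ℂ) (η : H → ℂ)‖ ^ 2)) = 2 ^ j * (a χ χ 0 : ℝ) := by
    exact_mod_cast h1
  have h4 : (0 : ℝ) ≤ 2 ^ j * (a χ χ 0 : ℝ) := by
    rw [← h3]
    exact Finset.sum_nonneg fun k _ => by positivity
  have h5 : (0 : ℝ) ≤ (a χ χ 0 : ℝ) := by
    by_contra hneg
    push Not at hneg
    have : (2 : ℝ) ^ j * (a χ χ 0 : ℝ) < 0 := mul_neg_of_pos_of_neg (by positivity) hneg
    linarith
  exact_mod_cast h5

/-- The sum over the block of the squares of the coefficients. -/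
theorem sum_sq_coeff (hM : IsPModular 2 M) (hH : H = Subgroup.centralizer ({u} : Set G))
    (hu : u ^ 2 ^ (j + 1) = 1) (hind : IsInducedBlock M H b B)
    (ha : IsCoeff u b j a)
    (χ : IrrCharacter G) :
    ∑ ψ : B, ∑ m ∈ Finset.range (2 ^ j), a χ ψ m ^ 2 = 2 ^ blockDefect 2 b * a χ χ 0 := by
  have : Fact (Nat.Prime 2) := ⟨Nat.prime_two⟩
  have h1 : ∀ k ∈ oddSet (j + 1), ∑ ψ : B, ev j (a χ ψ) k * conj (ev j (a χ ψ) k) =
      2 ^ blockDefect 2 b * ev j (a χ χ) k := by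
    intro k hk
    have hko := (mem_oddSet.1 hk).2
    have hord : ∃ i : ℕ, orderOf (u ^ k) = 2 ^ i := by
      have h2 : orderOf (u ^ k) ∣ 2 ^ (j + 1) := by
        apply orderOf_dvd_of_pow_eq_one
        rw [← pow_mul, mul_comm, pow_mul, hu, one_pow]
      obtain ⟨i, _, hi⟩ := (Nat.dvd_prime_pow Nat.prime_two).1 h2
      exact ⟨i, hi⟩
    have h3 := sum_contr_mul_contr hM hord (H := H) (by rw [hH, centralizer_odd_pow hu hko])
      hind (χ := (χ : G → ℂ)) (χ' := (χ : G → ℂ)) (Core.isIrr_isClassFunction χ.2)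
    have h4 : ∀ ψ : B, ev j (a χ ψ) k * conj (ev j (a χ ψ) k) =
        (2 : ℂ) ^ blockDefect 2 b * (2 : ℂ) ^ blockDefect 2 b *
          (contr 2 (u ^ k) b (χ : G → ℂ) ((ψ : IrrCharacter G) : G → ℂ) *
          contr 2 (u ^ k) b ((ψ : IrrCharacter G) : G → ℂ) (χ : G → ℂ)) := by
      intro ψ
      rw [conj_ev_coeff ha χ ψ hko, ← ha χ ψ k hko, ← ha ψ χ k hko]
      ring
    rw [Finset.sum_congr rfl fun ψ _ => h4 ψ, ← Finset.mul_sum, h3, ← ha χ χ k hko]
    ring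
  have h2 := Finset.sum_congr (rfl : oddSet (j + 1) = oddSet (j + 1)) h1
  rw [Finset.sum_comm, ← Finset.mul_sum, sum_ev] at h2
  simp only [sum_ev_mul_conj] at h2
  rw [← Finset.mul_sum, mul_left_comm] at h2
  have h3 := mul_left_cancel₀ (pow_ne_zero _ two_ne_zero) h2
  exact_mod_cast h3

/-- The trace. -/
theorem sum_coeff_self_block (hM : IsPModular 2 M)
    (hH : H = Subgroup.centralizer ({u} : Set G)) (hu : u ^ 2 ^ (j + 1) = 1)
    (hind : IsInducedBlock M H b B)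
    (ha : IsCoeff u b j a) :
    ∑ χ : B, a χ χ 0 = 2 ^ blockDefect 2 b * (blockRank 2 b : ℤ) := by
  have : Fact (Nat.Prime 2) := ⟨Nat.prime_two⟩
  have h1 : ∀ k ∈ oddSet (j + 1), ∑ χ : B, ev j (a χ χ) k =
      2 ^ blockDefect 2 b * (blockRank 2 b : ℂ) := by
    intro k hk
    have hko := (mem_oddSet.1 hk).2
    have hord : ∃ i : ℕ, orderOf (u ^ k) = 2 ^ i := by
      have h2 : orderOf (u ^ k) ∣ 2 ^ (j + 1) := by
        apply orderOf_dvd_of_pow_eq_one
        rw [← pow_mul, mul_comm, pow_mul, hu, one_pow]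
      obtain ⟨i, _, hi⟩ := (Nat.dvd_prime_pow Nat.prime_two).1 h2
      exact ⟨i, hi⟩
    rw [← sum_contr_self hM hord (H := H) (by rw [hH, centralizer_odd_pow hu hko]) hind,
      Finset.mul_sum]
    exact Finset.sum_congr rfl fun χ _ => (ha χ χ k hko).symm
  have h2 := Finset.sum_congr (rfl : oddSet (j + 1) = oddSet (j + 1)) h1
  rw [Finset.sum_comm] at h2
  simp only [sum_ev] at h2
  rw [← Finset.mul_sum, Finset.sum_const, card_oddSet, nsmul_eq_mul] at h2
  push_cast at h2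
  have h3 := mul_left_cancel₀ (pow_ne_zero _ two_ne_zero) h2
  exact_mod_cast h3

/-- Odd coefficient sums for pairs of height zero characters. -/
theorem odd_sum_coeff (hM : IsPModular 2 M)
    (hH : H = Subgroup.centralizer ({u} : Set G)) (hu : u ^ 2 ^ (j + 1) = 1)
    (hind : IsInducedBlock M H b B)
    (ha : IsCoeff u b j a)
    {χ ψ : IrrCharacter G} (hχ : χ ∈ B) (hψ : ψ ∈ B) (hχ0 : blockHeight 2 B (χ : G → ℂ) = 0)
    (hψ0 : blockHeight 2 B (ψ : G → ℂ) = 0) :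
    ¬ (2 : ℤ) ∣ ∑ m ∈ Finset.range (2 ^ j), a χ ψ m := by
  have : Fact (Nat.Prime 2) := ⟨Nat.prime_two⟩
  have := Core.finite_irr (G := H)
  have := Fintype.ofFinite (IrrCharacter H)
  have := Fintype.ofFinite G
  obtain ⟨n, e, hE⟩ := exists_exp hH hu
  rw [← memLocalIdeal_ev_iff hM j (a χ ψ) 1, ← ha χ ψ 1 odd_one]
  have h := not_memLocalIdeal_contr hM hE hind hχ hψ hχ0 hψ0 (k := 1)
    (by rw [pow_one]; exact hH)
  exact_mod_cast h

end facts

end Cfsg.Agent.H617.ContrAvg
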