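import Mathlib
import Cfsg.Agent.H632.TwoChars
import Cfsg.Agent.H644.CentralQuot
import Cfsg.Agent.H644.Maximal
import Cfsg.Agent.H649.PairInduced
import Cfsg.Agent.H649.DefectPair
import Cfsg.Agent.H802.FusNorm
import Cfsg.Agent.S4540
import Cfsg.Agent.S4541
import Cfsg.Agent.S4655
import Cfsg.Agent.S4658
import Cfsg.Agent.S4676
import Cfsg.Agent.S4677
import Cfsg.Agent.S4678

/-!
# Ranks of `2`-blocks of defect at most two, subsections
-/

set_option autoImplicit false

namespace Cfsg.Agent.H617.SmallRank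

open Cfsg Cfsg.FusionSystem

universe u
variable {G : Type u} [Group G] [Finite G] {M : Ideal AlgInt}

theorem blockRank_le_card (p : ℕ) (B : Set (IrrCharacter G)) : blockRank p B ≤ Nat.card B := by
  classical
  have := Cfsg.Agent.Characters.Core.finite_irr (G := G)
  have := Fintype.ofFinite (IrrCharacter G)
  have hfin : Set.Finite ((fun χ : IrrCharacter G => pRegularPart p (χ : G → ℂ)) '' B) :=
    (Set.toFinite B).image _
  have := hfin.fintype
  refine (finrank_span_le_card _).trans ?_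
  rw [Set.toFinset_card, ← Nat.card_eq_fintype_card]
  exact Set.ncard_image_le (Set.toFinite B)

/-- **Subsections.** For `u` in the defect group `D` there is a subsection `(v, b)` with `v` conjugate to `u`
in the block fusion system and `C_D(v)` a defect group of `b`. -/
theorem exists_subsection {p : ℕ} [Fact p.Prime] (hM : IsPModular p M)
    {B : Set (IrrCharacter G)} (hB : IsPBlock M B) {D : Subgroup G} (hD : IsDefectGroup p M B D) :
    ∃ F : FusionSystem D, F.IsSaturated p ∧ ∀ u ∈ D, ∃ v ∈ D, F.IsConjElt u v ∧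
      ∃ b : Set (IrrCharacter (Subgroup.centralizer ({v} : Set G))),
        IsInducedBlock M (Subgroup.centralizer ({v} : Set G)) b B ∧
        IsDefectGroup p M b ((D ⊓ Subgroup.centralizer ({v} : Set G)).subgroupOf
          (Subgroup.centralizer ({v} : Set G))) := by
  have := Fintype.ofFinite G
  have := Cfsg.Agent.Blocks.Local.isPrime_of_isPModular hM
  have hDp : IsPGroup p D := Cfsg.Agent.Blocks.Basic.isPGroup_of_isDefectGroup hD
  obtain ⟨e, he⟩ := Cfsg.Agent.H649.exists_pair_of_isDefectGroup hM hB hD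
  have hmax := Cfsg.Agent.H644.isMaximalBrauerPair_of_isDefectGroup hM he hD
  obtain ⟨F, hF, hsat⟩ := Cfsg.Agent.S4677.result p M hM B D e hmax
  refine ⟨F, hsat, fun u hu => ?_⟩
  have huD : Subgroup.zpowers u ≤ D := Subgroup.zpowers_le.2 hu
  obtain ⟨Q, hQ, hQn⟩ := Cfsg.Agent.H802.exists_isFullyNormalized hDp hsat huD
  have hQc := Cfsg.Agent.H802.isFullyCentralized_of_isFullyNormalized hDp hsat hQn
  obtain ⟨φ, hφ, hφQ⟩ := hQ
  obtain ⟨v, hv⟩ : ∃ v, v = φ ⟨u, Subgroup.mem_zpowers u⟩ := ⟨_, rfl⟩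
  have hQv : Q = Subgroup.zpowers v := by
    rw [← hφQ]
    ext y
    constructor
    · rintro ⟨⟨_, n, rfl⟩, rfl⟩
      refine ⟨n, ?_⟩
      change v ^ n = _
      rw [hv, ← map_zpow]
      rfl
    · rintro ⟨n, rfl⟩
      refine ⟨⟨u, Subgroup.mem_zpowers u⟩ ^ n, ?_⟩
      rw [map_zpow, ← hv]
  have hvD : v ∈ D := by
    rw [hv]
    exact Cfsg.Agent.H802.hom_apply_mem hφ _
  refine ⟨v, hvD, ⟨φ, hφ, hv.symm⟩, ?_⟩
  have hvD' : Subgroup.zpowers v ≤ D := Subgroup.zpowers_le.2 hvD
  obtain ⟨f, ⟨hf, hfle⟩, -⟩ := Cfsg.Agent.S4655.result p M hM D (Subgroup.zpowers v) e he.1 hvD'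
  have hfc : F.IsFullyCentralized (Subgroup.zpowers v) := hQv ▸ hQc
  have hdef := (Cfsg.Agent.S4678.result p M hM B D e hmax F hF _ f hvD' hf hfle).1 hfc
  have hvp : IsPGroup p (Subgroup.zpowers v) := hDp.to_le hvD'
  have hpair := (Cfsg.Agent.S4658.result p M hM D (Subgroup.zpowers v) e f he.1 ⟨hvp, hf⟩ hfle B
    hB).1 he
  have hind := (Cfsg.Agent.H649.isBrauerPairOf_iff_isInducedBlock hM hB hvp hf).1 hpair
  have hC : Subgroup.centralizer ({v} : Set G) =
      Subgroup.centralizer ((Subgroup.zpowers v : Subgroup G) : Set G) := by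
    ext y
    rw [Subgroup.mem_centralizer_singleton_iff, Subgroup.mem_centralizer_iff]
    constructor
    · rintro h _ ⟨n, rfl⟩
      exact ((show Commute v y from h.symm).zpow_left n).eq
    · intro h
      exact (h v (Subgroup.mem_zpowers v)).symm
  have key : ∀ H : Subgroup G,
      H = Subgroup.centralizer ((Subgroup.zpowers v : Subgroup G) : Set G) →
      ∃ b : Set (IrrCharacter H), IsInducedBlock M H b B ∧
        IsDefectGroup p M b ((D ⊓ H).subgroupOf H) := by
    rintro H rfl
    exact ⟨f, hind, hdef⟩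
  exact key _ hC

section Two

theorem card_le_of_defect (hM : IsPModular 2 M) {B : Set (IrrCharacter G)} (hB : IsPBlock M B) :
    Nat.card B ≤ (2 ^ blockDefect 2 B) ^ 2 / 4 + 1 := by
  classical
  have := Fintype.ofFinite G
  have hp : Fact (Nat.Prime 2) := ⟨Nat.prime_two⟩
  have := Cfsg.Agent.Characters.Core.finite_irr (G := G)
  have := Fintype.ofFinite (IrrCharacter G)
  obtain ⟨D, hD⟩ := Cfsg.Agent.H646.DefectBasic.exists_isDefectGroup hM hB
  have h1 := Cfsg.Agent.S4676.result 2 M hM B hB D hD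
  rw [Cfsg.Agent.S0908.result 2 M hM B hB D hD] at h1
  refine le_trans ?_ h1
  rw [finsum_mem_eq_finite_toFinset_sum _ (Set.toFinite B)]
  have h2 : Nat.card B = ∑ _χ ∈ (Set.toFinite B).toFinset, 1 := by
    rw [Finset.sum_const, smul_eq_mul, mul_one]
    exact Set.ncard_eq_toFinset_card B (Set.toFinite B)
  rw [h2]
  exact Finset.sum_le_sum fun χ _ => Nat.one_le_pow _ _ (by norm_num)

/-- Blocks of defect at most one have rank one. -/
theorem blockRank_le_one (hM : IsPModular 2 M) {B : Set (IrrCharacter G)} (hB : IsPBlock M B)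
    (hd : blockDefect 2 B ≤ 1) : blockRank 2 B ≤ 1 := by
  have := Fintype.ofFinite G
  have hp : Fact (Nat.Prime 2) := ⟨Nat.prime_two⟩
  have h1 := card_le_of_defect hM hB
  have h2 : (2 ^ blockDefect 2 B) ^ 2 / 4 + 1 ≤ 2 := by
    have : blockDefect 2 B = 0 ∨ blockDefect 2 B = 1 := by omega
    rcases this with h | h <;> rw [h] <;> norm_num
  have h3 := blockRank_le_card 2 B
  by_cases hB2 : 2 ≤ Nat.card B
  · have := Cfsg.Agent.H632.TwoChars.blockRank_lt hM hB hB2
    omega
  · omega

/-- The rank of a block of a group with a central element `v`. -/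
theorem blockRank_eq_quotient (hM : IsPModular 2 M) {v : G} {b : Set (IrrCharacter
    (Subgroup.centralizer ({v} : Set G)))} (hb : IsPBlock M b) {t : ℕ} (hv : orderOf v = 2 ^ t)
    {n : ℕ} (hn : ∀ (K : Type u) [Group K] [Finite K] (c : Set (IrrCharacter K)),
      IsPBlock M c → blockDefect 2 c + t = blockDefect 2 b → blockRank 2 c ≤ n) :
    blockRank 2 b ≤ n := by
  have hp : Fact (Nat.Prime 2) := ⟨Nat.prime_two⟩
  let w : Subgroup.centralizer ({v} : Set G) := ⟨v, by
    rw [Subgroup.mem_centralizer_singleton_iff]⟩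
  have := Fintype.ofFinite (Subgroup.centralizer ({v} : Set G))
  let U : Subgroup (Subgroup.centralizer ({v} : Set G)) := Subgroup.zpowers w
  have hU : U ≤ Subgroup.center (Subgroup.centralizer ({v} : Set G)) := by
    rw [Subgroup.zpowers_le, Subgroup.mem_center_iff]
    intro g
    apply Subtype.ext
    exact (Subgroup.mem_centralizer_singleton_iff.1 g.2)
  have hUn : U.Normal := by
    refine ⟨fun z hz g => ?_⟩
    rw [Subgroup.mem_center_iff.1 (hU hz) g, mul_assoc, mul_inv_cancel, mul_one]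
    exact hz
  have hUcard : Nat.card U = 2 ^ t := by
    rw [Nat.card_zpowers, ← hv]
    exact (orderOf_injective (Subgroup.centralizer ({v} : Set G)).subtype
      Subtype.val_injective w).symm
  have h1 := Cfsg.Agent.H644.CentralQuot.blockRank_defl hM hU (IsPGroup.of_card hUcard) hb
  have h2 := Cfsg.Agent.H644.CentralQuot.blockDefect_defl hM hU hUcard hb
  have h3 := Cfsg.Agent.H644.CentralQuot.isPBlock_defl hM hU (IsPGroup.of_card hUcard) hb
  rw [← h1]
  exact hn _ _ h3 h2

/-- Blocks of defect two have at most four characters, and rank at most three. -/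
theorem blockRank_le_three (hM : IsPModular 2 M) {B : Set (IrrCharacter G)} (hB : IsPBlock M B)
    (hd : blockDefect 2 B ≤ 2) : blockRank 2 B ≤ 3 := by
  have := Fintype.ofFinite G
  have hp : Fact (Nat.Prime 2) := ⟨Nat.prime_two⟩
  by_cases hd1 : blockDefect 2 B ≤ 1
  · exact (blockRank_le_one hM hB hd1).trans (by norm_num)
  have hd2 : blockDefect 2 B = 2 := by omega
  obtain ⟨D, hD⟩ := Cfsg.Agent.H646.DefectBasic.exists_isDefectGroup hM hB
  have hcard := Cfsg.Agent.S0908.result 2 M hM B hB D hD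
  rw [hd2] at hcard
  have hDp : IsPGroup 2 D := IsPGroup.of_card hcard
  obtain ⟨F, hsat, hF⟩ := exists_subsection hM hB hD
  have hcomm : ∀ x ∈ D, ∀ y ∈ D, x * y = y * x := by
    intro x hx y hy
    have h1 := IsPGroup.isMulCommutative_of_card_eq_prime_sq (p := 2) (G := D) hcard
    exact congrArg Subtype.val (h1.is_comm.comm ⟨x, hx⟩ ⟨y, hy⟩)
  obtain ⟨z, hz, hz1⟩ : ∃ z ∈ D, z ≠ 1 := by
    by_contra hno
    push Not at hno
    have h1 : D = ⊥ := (Subgroup.eq_bot_iff_forall _).2 hno
    rw [h1, Subgroup.card_bot] at hcard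
    norm_num at hcard
  obtain ⟨v, hv, hzv, b, hind, hdef⟩ := hF z hz
  have hvle : D ≤ Subgroup.centralizer ({v} : Set G) := fun x hx =>
    Subgroup.mem_centralizer_singleton_iff.2 (hcomm x hx v hv)
  rw [inf_eq_left.2 hvle] at hdef
  have hdb : blockDefect 2 b = 2 := by
    have h1 := Cfsg.Agent.S0908.result 2 M hM b hind.1 _ hdef
    rw [Nat.card_congr (Subgroup.subgroupOfEquivOfLe hvle).toEquiv, hcard] at h1
    exact (Nat.pow_right_injective (le_refl 2) h1).symm
  have hv1 : v ≠ 1 := by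
    rintro rfl
    obtain ⟨φ, hφ, hφ1⟩ := hzv
    apply hz1
    have h1 : (⟨z, Subgroup.mem_zpowers z⟩ : Subgroup.zpowers z) = 1 := by
      apply F.injective_of_mem hφ
      rw [hφ1, map_one]
    exact congrArg Subtype.val h1
  obtain ⟨t, ht⟩ : ∃ t, orderOf v = 2 ^ t := by
    obtain ⟨k, hk⟩ := hDp ⟨v, hv⟩
    have hk' : v ^ 2 ^ k = 1 := congrArg Subtype.val hk
    obtain ⟨m, -, hm⟩ := (Nat.dvd_prime_pow Nat.prime_two).1 (orderOf_dvd_of_pow_eq_one hk')
    exact ⟨m, hm⟩
  have ht0 : t ≠ 0 := by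
    rintro rfl
    rw [pow_zero, orderOf_eq_one_iff] at ht
    exact hv1 ht
  have hrank : blockRank 2 b ≤ 3 := by
    refine (blockRank_eq_quotient hM hind.1 ht (n := 1) ?_).trans (by norm_num)
    intro K _ _ c hc hdc
    exact blockRank_le_one hM hc (by omega)
  have h4 := Cfsg.Agent.S4540.result M hM B hB D hD v hv (fun d hd => hcomm d hd v hv) b hind hdef
    hrank
  have h5 : Nat.card B ≤ 4 := by
    have h6 := h4.1.trans h4.2
    rw [hd2] at h6
    omega
  by_cases hB2 : 2 ≤ Nat.card B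
  · have := Cfsg.Agent.H632.TwoChars.blockRank_lt hM hB hB2
    omega
  · have := blockRank_le_card 2 B
    omega

/-- The rank of `b` for a subsection `(v, b)`. -/
theorem blockRank_le_three_of_central (hM : IsPModular 2 M) {v : G} {b : Set (IrrCharacter
    (Subgroup.centralizer ({v} : Set G)))} (hb : IsPBlock M b) {t : ℕ} (hv : orderOf v = 2 ^ t)
    (hd : blockDefect 2 b ≤ t + 2) : blockRank 2 b ≤ 3 :=
  blockRank_eq_quotient hM hb hv (n := 3) fun _ _ _ _ hc hdc =>
    blockRank_le_three hM hc (by omega)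

theorem blockRank_le_one_of_central (hM : IsPModular 2 M) {v : G} {b : Set (IrrCharacter
    (Subgroup.centralizer ({v} : Set G)))} (hb : IsPBlock M b) {t : ℕ} (hv : orderOf v = 2 ^ t)
    (hd : blockDefect 2 b ≤ t + 1) : blockRank 2 b ≤ 1 :=
  blockRank_eq_quotient hM hb hv (n := 1) fun _ _ _ _ hc hdc =>
    blockRank_le_one hM hc (by omega)

end Two

end Cfsg.Agent.H617.SmallRank
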