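import Mathlib
import Cfsg.Agent.H645.Watanabe
import Cfsg.Agent.S4687
import Cfsg.Agent.S4689
import Cfsg.Agent.S4540
import Cfsg.Agent.H617.SmallRank

/-!
# Ranks of blocks with abelian defect groups: small inertial quotients
-/

set_option autoImplicit false
set_option linter.unusedSectionVars false

open Cfsg
open scoped ComplexConjugate

namespace Cfsg.Agent.H617.AbelRank

open Cfsg.Agent.H651 Cfsg.Agent.H649 Cfsg.Agent.Characters
open Cfsg.Agent.H652.DoubleCount Cfsg.Agent.H645.FusCount Cfsg.Agent.H650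
open Cfsg.Agent.H645.TraceForm Cfsg.Agent.H645.LocMono Cfsg.Agent.H645.Watanabe

universe u

variable {G : Type u} [Group G] [Fintype G] {p : ℕ} [Fact p.Prime] {M : Ideal AlgInt} [M.IsPrime]

section

variable (hM : IsPModular p M) {B : Set (IrrCharacter G)} {a : BrauerPairIdx G}
  (hmax : IsMaximalBrauerPair p M B a.1 a.2) (hab : ∀ x ∈ a.1, ∀ y ∈ a.1, x * y = y * x)

include hM hmax hab

/-- The local data at `v`. -/
theorem exists_local {v : G} (hv : v ∈ a.1) :
    ∃ (b : Set (IrrCharacter (Subgroup.centralizer ({v} : Set G))))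
      (a' : BrauerPairIdx (Subgroup.centralizer ({v} : Set G))),
      IsInducedBlock M (Subgroup.centralizer ({v} : Set G)) b B ∧
      blockRank p b = blockRank p (bP p M a v).2 ∧
      a'.1 = a.1.subgroupOf (Subgroup.centralizer ({v} : Set G)) ∧
      IsMaximalBrauerPair p M b a'.1 a'.2 ∧ (∀ x ∈ a'.1, ∀ y ∈ a'.1, x * y = y * x) ∧
      (∀ x : Subgroup.centralizer ({v} : Set G), x ∈ stab a' ↔ (x : G) ∈ stab a) := by
  obtain ⟨h1, h2⟩ := bP_spec hM hmax.1.1 hv
  obtain ⟨a', k1, k2, k3, k4, k5, k6⟩ := exists_loc hM hmax hab (Q := (bP p M a v).1)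
    (f := (bP p M a v).2) h2
  have h3 := isBrauerPairOf_bP hM hmax hv
  have h4 := (isBrauerPairOf_iff_isInducedBlock hM h3.2.1 h3.1.1 h3.1.2).1 h3
  have hH : Subgroup.centralizer ({v} : Set G) =
      Subgroup.centralizer ((bP p M a v).1 : Set G) := by
    rw [h1, Cfsg.Agent.H652.Ctr.centralizer_zpowers_eq]
  have key : ∀ H : Subgroup G, H = Subgroup.centralizer ((bP p M a v).1 : Set G) →
      ∃ (b : Set (IrrCharacter H)) (a' : BrauerPairIdx H),
      IsInducedBlock M H b B ∧ blockRank p b = blockRank p (bP p M a v).2 ∧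
      a'.1 = a.1.subgroupOf H ∧
      IsMaximalBrauerPair p M b a'.1 a'.2 ∧ (∀ x ∈ a'.1, ∀ y ∈ a'.1, x * y = y * x) ∧
      (∀ x : H, x ∈ stab a' ↔ (x : G) ∈ stab a) := by
    rintro H rfl
    exact ⟨(bP p M a v).2, a', h4, rfl, k1, k3, k4, k5⟩
  exact key _ hH

/-- Trivial inertial quotient. -/
theorem rank_one (h : ∀ t ∈ stab a, ∀ x ∈ a.1, t * x * t⁻¹ = x) : blockRank p B = 1 := by
  have hnil : IsNilpotentBlock p M B := by
    rw [Cfsg.Agent.S4687.result p M hM B a.1 a.2 hmax hab]
    intro x hx hst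
    have h1 : x ∈ stab a := (conjIdx_eq_iff hmax.1.1.2 x).2 ⟨hx, hst⟩
    rw [Subgroup.mem_centralizer_iff]
    intro y hy
    have h2 := h x h1 y hy
    calc y * x = x * y * x⁻¹ * x := by rw [h2]
      _ = x * y := by group
  exact (Cfsg.Agent.S4689.result p M hM B hnil).1

theorem rank_one_at {v : G} (hv : v ∈ a.1)
    (h : ∀ t ∈ stab a, t * v * t⁻¹ = v → ∀ x ∈ a.1, t * x * t⁻¹ = x) :
    blockRank p (bP p M a v).2 = 1 := by
  obtain ⟨b, a', h1, h2, h3, h4, h5, h6⟩ := exists_local hM hmax hab hv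
  rw [← h2]
  have := Fintype.ofFinite (Subgroup.centralizer ({v} : Set G))
  refine rank_one hM h4 h5 fun t ht x hx => ?_
  rw [h3, Subgroup.mem_subgroupOf] at hx
  apply Subtype.ext
  refine h t ((h6 t).1 ht) ?_ x hx
  have h7 : (t : G) * v = v * t := Subgroup.mem_centralizer_singleton_iff.1 t.2
  rw [h7]; group

theorem centralizer_le_stab : Subgroup.centralizer (a.1 : Set G) ≤ stab a := by
  have h := centralizer_le_idxStab (Q := a.1) (f := a.2) hmax.1.1.2
  intro x hx
  exact h hx

/-- For an inertial quotient of prime order, the stabilizer of a moved element is `C_G(P)`. -/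
theorem inf_eq_of_prime {r : ℕ} (hr : r.Prime)
    (hidx : (Subgroup.centralizer (a.1 : Set G)).relIndex (stab a) = r) {v : G} (hv : v ∈ a.1)
    (hvn : ¬ ∀ t ∈ stab a, t * v * t⁻¹ = v) :
    Subgroup.centralizer (a.1 : Set G) = stab a ⊓ Subgroup.centralizer ({v} : Set G) := by
  have hCS : Subgroup.centralizer (a.1 : Set G) ≤ stab a := centralizer_le_stab hM hmax hab
  have k1 : Subgroup.centralizer (a.1 : Set G) ≤
      stab a ⊓ Subgroup.centralizer ({v} : Set G) := by
    refine le_inf hCS fun t ht => ?_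
    rw [Subgroup.mem_centralizer_singleton_iff]
    exact (Subgroup.mem_centralizer_iff.1 ht v hv).symm
  have k2 := Subgroup.relIndex_mul_relIndex (Subgroup.centralizer (a.1 : Set G))
    (stab a ⊓ Subgroup.centralizer ({v} : Set G)) (stab a) k1 inf_le_left
  rw [hidx] at k2
  rcases (Nat.dvd_prime hr).1 (Dvd.intro _ k2) with h | h
  · exact le_antisymm k1 (Subgroup.relIndex_eq_one.1 h)
  · exfalso
    rw [h] at k2
    have h4 : (stab a ⊓ Subgroup.centralizer ({v} : Set G)).relIndex (stab a) = 1 :=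
      Nat.eq_of_mul_eq_mul_left hr.pos (by rw [k2, mul_one])
    apply hvn
    intro t ht
    have h5 := (Subgroup.relIndex_eq_one.1 h4 ht).2
    have h6 : t * v = v * t := Subgroup.mem_centralizer_singleton_iff.1 h5
    rw [h6]; group

theorem rank_one_of_prime {r : ℕ} (hr : r.Prime)
    (hidx : (Subgroup.centralizer (a.1 : Set G)).relIndex (stab a) = r) {v : G} (hv : v ∈ a.1)
    (hvn : ¬ ∀ t ∈ stab a, t * v * t⁻¹ = v) : blockRank p (bP p M a v).2 = 1 := by
  have k3 := inf_eq_of_prime hM hmax hab hr hidx hv hvn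
  refine rank_one_at hM hmax hab hv ?_
  intro t ht htv x hx
  have h4 : t ∈ stab a ⊓ Subgroup.centralizer ({v} : Set G) := by
    refine Subgroup.mem_inf.2 ⟨ht, Subgroup.mem_centralizer_singleton_iff.2 ?_⟩
    calc t * v = t * v * t⁻¹ * t := by group
      _ = v * t := by rw [htv]
  rw [← k3] at h4
  have h5 := Subgroup.mem_centralizer_iff.1 h4 x hx
  rw [← h5]; group

/-- The count for an inertial quotient of prime order. -/
theorem card_of_prime {r : ℕ} (hr : r.Prime)
    (hidx : (Subgroup.centralizer (a.1 : Set G)).relIndex (stab a) = r) :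
    r * Nat.card B + Nat.card {w : G // w ∈ a.1 ∧ ∀ t ∈ stab a, t * w * t⁻¹ = w} =
      r * Nat.card {w : G // w ∈ a.1 ∧ ∀ t ∈ stab a, t * w * t⁻¹ = w} * blockRank p B +
        Nat.card a.1 := by
  classical
  have := Fintype.ofFinite a.1
  set C := Subgroup.centralizer (a.1 : Set G) with hC
  set S := stab a with hS
  have hCS : C ≤ S := centralizer_le_stab hM hmax hab
  have hcard : Nat.card S = r * Nat.card C := by
    have h1 := Subgroup.card_mul_index (C.subgroupOf S)
    rw [Nat.card_congr (Subgroup.subgroupOfEquivOfLe hCS).toEquiv] at h1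
    change Nat.card C * C.relIndex S = Nat.card S at h1
    rw [hidx] at h1
    rw [← h1, mul_comm]
  have hCpos : (Nat.card C : ℂ) ≠ 0 := by exact_mod_cast Nat.card_pos.ne'
  have hr0 : (r : ℂ) ≠ 0 := by exact_mod_cast hr.ne_zero
  have e1 := Cfsg.Agent.H645.TraceForm.card_eq hM hmax (ctrl_of_abelian hM hmax hab)
  -- the terms
  have hfix : ∀ v : a.1, (∀ t ∈ S, t * (v : G) * t⁻¹ = v) →
      (Nat.card (S ⊓ Subgroup.centralizer ({(v : G)} : Set G) : Subgroup G) : ℂ) *
          blockRank p (bP p M a (v : G)).2 = Nat.card C * (r * blockRank p B) := by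
    intro v hv
    have h1 : S ⊓ Subgroup.centralizer ({(v : G)} : Set G) = S := by
      refine inf_eq_left.2 fun t ht => ?_
      rw [Subgroup.mem_centralizer_singleton_iff]
      calc t * (v : G) = t * v * t⁻¹ * t := by group
        _ = v * t := by rw [hv t ht]
    rw [h1, hcard, rank_eq hM hmax hab v.2 hv]
    push_cast
    ring
  have hnfix : ∀ v : a.1, ¬ (∀ t ∈ S, t * (v : G) * t⁻¹ = v) →
      (Nat.card (S ⊓ Subgroup.centralizer ({(v : G)} : Set G) : Subgroup G) : ℂ) *
          blockRank p (bP p M a (v : G)).2 = Nat.card C * 1 := by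
    intro v hv
    rw [rank_one_of_prime hM hmax hab hr hidx v.2 hv, Nat.cast_one,
      ← inf_eq_of_prime hM hmax hab hr hidx v.2 hv]
  have hW : Nat.card {w : G // w ∈ a.1 ∧ ∀ t ∈ S, t * w * t⁻¹ = w} =
      (Finset.univ.filter fun v : a.1 => ∀ t ∈ S, t * (v : G) * t⁻¹ = v).card := by
    rw [← Fintype.card_subtype, ← Nat.card_eq_fintype_card]
    exact Nat.card_congr (Equiv.subtypeSubtypeEquivSubtypeInter (fun w => w ∈ a.1)
      (fun w => ∀ t ∈ S, t * w * t⁻¹ = w)).symm
  have hsplit := Finset.sum_filter_add_sum_filter_not (Finset.univ : Finset a.1)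
    (fun v : a.1 => ∀ t ∈ S, t * (v : G) * t⁻¹ = v)
    (fun v : a.1 => (Nat.card (S ⊓ Subgroup.centralizer ({(v : G)} : Set G) : Subgroup G) : ℂ) *
          blockRank p (bP p M a (v : G)).2)
  rw [Finset.sum_congr rfl fun v hv => hfix v (Finset.mem_filter.1 hv).2,
    Finset.sum_congr rfl fun v hv => hnfix v (Finset.mem_filter.1 hv).2, Finset.sum_const,
    Finset.sum_const, nsmul_eq_mul, nsmul_eq_mul] at hsplit
  rw [← hsplit, hcard] at e1
  have hnot : ((Finset.univ.filter fun v : a.1 => ¬ ∀ t ∈ S, t * (v : G) * t⁻¹ = v).card : ℂ) =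
      Nat.card a.1 - (Finset.univ.filter fun v : a.1 => ∀ t ∈ S, t * (v : G) * t⁻¹ = v).card := by
    have h1 := Finset.card_filter_add_card_filter_not (s := (Finset.univ : Finset a.1))
      (fun v : a.1 => ∀ t ∈ S, t * (v : G) * t⁻¹ = v)
    rw [Finset.card_univ, ← Nat.card_eq_fintype_card] at h1
    rw [← h1]
    push_cast
    ring
  rw [hW]
  have key : (r : ℂ) * Nat.card B +
      (Finset.univ.filter fun v : a.1 => ∀ t ∈ S, t * (v : G) * t⁻¹ = v).card =
      r * (Finset.univ.filter fun v : a.1 => ∀ t ∈ S, t * (v : G) * t⁻¹ = v).card *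
        blockRank p B + Nat.card a.1 := by
    rw [e1, hnot]
    push_cast
    field_simp
    ring
  exact_mod_cast key

end

section two

variable (hM : IsPModular 2 M) {B : Set (IrrCharacter G)} {a : BrauerPairIdx G}
  (hmax : IsMaximalBrauerPair 2 M B a.1 a.2) (hab : ∀ x ∈ a.1, ∀ y ∈ a.1, x * y = y * x)

include hM hmax hab

theorem card_le_of_rank {v : G} (hv : v ∈ a.1) (h : blockRank 2 (bP 2 M a v).2 ≤ 3) :
    Nat.card B ≤ Nat.card a.1 := by
  obtain ⟨b, a', h1, h2, h3, h4, h5, h6⟩ := exists_local hM hmax hab hv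
  have := Fintype.ofFinite (Subgroup.centralizer ({v} : Set G))
  have hD := Cfsg.Agent.H644.isDefectGroup_of_isMaximalBrauerPair hM hmax
  have hD' := Cfsg.Agent.H644.isDefectGroup_of_isMaximalBrauerPair hM h4
  rw [h3] at hD'
  rw [← h2] at h
  have h7 := Cfsg.Agent.S4540.result M hM B hmax.1.2.1 a.1 hD v hv
    (fun d hd => hab d hd v hv) b h1 hD' h
  rw [Cfsg.Agent.S0908.result 2 M hM B hmax.1.2.1 a.1 hD]
  have h8 := h7.1.trans h7.2
  omega

/-- Inertial quotient of order three acting on a quotient of order four. -/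
theorem rank_le_three_of_three
    (hidx : (Subgroup.centralizer (a.1 : Set G)).relIndex (stab a) = 3)
    (hW : 4 * Nat.card {w : G // w ∈ a.1 ∧ ∀ t ∈ stab a, t * w * t⁻¹ = w} = Nat.card a.1) :
    blockRank 2 B ≤ 3 := by
  have h1 := card_of_prime hM hmax hab Nat.prime_three hidx
  set W := Nat.card {w : G // w ∈ a.1 ∧ ∀ t ∈ stab a, t * w * t⁻¹ = w} with hWdef
  have hWpos : 0 < W := by
    have hpos : 0 < Nat.card a.1 := Nat.card_pos
    omega
  -- an element outside `W`
  obtain ⟨v, hv, hvn⟩ : ∃ v ∈ a.1, ¬ ∀ t ∈ stab a, t * v * t⁻¹ = v := by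
    by_contra hno
    push Not at hno
    have h2 : W = Nat.card a.1 := Nat.card_congr
      { toFun := fun w => ⟨w.1, w.2.1⟩
        invFun := fun w => ⟨w.1, w.2, hno w.1 w.2⟩
        left_inv := fun _ => rfl
        right_inv := fun _ => rfl }
    omega
  have hrank : blockRank 2 (bP 2 M a v).2 = 1 :=
    rank_one_of_prime hM hmax hab Nat.prime_three hidx hv hvn
  have h3 := card_le_of_rank hM hmax hab hv (by rw [hrank]; norm_num)
  rw [← hW] at h1 h3
  -- 3 k + W = 3 W l + 4 W, k ≤ 4 W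
  have h4 : W * (3 * blockRank 2 B) ≤ W * 9 := by nlinarith
  have h5 := Nat.le_of_mul_le_mul_left h4 hWpos
  omega

end two

end Cfsg.Agent.H617.AbelRank
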