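import Mathlib
import Cfsg.Agent.H617.ContrAvg
import Cfsg.Agent.H639.Sec
import Cfsg.Agent.H646.DefectBasic
import Cfsg.Agent.H649.ConjPair
import Cfsg.Agent.S4675

/-!
# Subsections `(u, b)` with `l(b) = 1` and `u` conjugate to `u⁻¹` or `u ^ (2 ^ j - 1)`
-/

set_option autoImplicit false
set_option linter.unusedSectionVars false

open Cfsg
open scoped ComplexConjugate

namespace Cfsg.Agent.H617.RankOneCol

open Cfsg.Agent.Blocks.Blau Cfsg.Agent.Blocks.Local Cfsg.Agent.Characters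
open Cfsg.Agent.H613.RegGram Cfsg.Agent.H613.Contrib Cfsg.Agent.H613.ContribVal
open Cfsg.Agent.H617.TwoAvg Cfsg.Agent.H617.ContrAvg
open Cfsg.Agent.Blocks.Basic (isPBlock_blockOf mem_blockOf_self isPBlock_eq_blockOf
  isPBlock_eq_of_mem)

section one

variable {H : Type*} [Group H] [Fintype H] {p : ℕ} [Fact p.Prime] {M : Ideal AlgInt}

/-- Rank one: members of `b` are multiples of a single function on the regular elements. -/
theorem exists_rank_one (hM : IsPModular p M) {b : Set (IrrCharacter H)} [Fintype b]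
    (hb : IsPBlock M b) (hl : blockRank p b = 1) :
    ∃ φ : H → ℂ, ∃ d : IrrCharacter H → ℕ,
      (∀ ξ ∈ b, ∀ x : H, ¬ p ∣ orderOf x → (ξ : H → ℂ) x = (d ξ : ℂ) * φ x) ∧
      (∀ ξ ∈ b, ∀ η ∈ b, (p : ℂ) ^ blockDefect p b * rg p (ξ : H → ℂ) (η : H → ℂ) =
        d ξ * d η) ∧ ∑ ξ : b, (d ξ : ℂ) ^ 2 = (p : ℂ) ^ blockDefect p b := by
  classical
  have hpp : p.Prime := Fact.out
  obtain ⟨P, hP⟩ := Cfsg.Agent.H646.DefectBasic.exists_isDefectGroup hM hb
  obtain ⟨φ, d, -, hφ, hd⟩ := Cfsg.Agent.S4675.result p M hM b hb P hP hl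
  rw [Cfsg.Agent.S0908.result p M hM b hb P hP, finsum_mem_eq_toFinset_sum] at hd
  have hd' : ∑ ξ : b, (d ξ : ℂ) ^ 2 = (p : ℂ) ^ blockDefect p b := by
    rw [← Finset.sum_subtype b.toFinset (p := fun x => x ∈ b) (fun x => Set.mem_toFinset)
      (fun ξ : IrrCharacter H => (d ξ : ℂ) ^ 2)]
    exact_mod_cast hd
  have hrg : ∀ ξ ∈ b, ∀ η ∈ b, rg p (ξ : H → ℂ) (η : H → ℂ) = d ξ * d η * rg p φ φ := by
    intro ξ hξ η hη
    rw [rg_def, rg_def, pair_eq_sum_filter, pair_eq_sum_filter, Finset.mul_sum, Finset.mul_sum,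
      Finset.mul_sum]
    refine Finset.sum_congr rfl fun y hy => ?_
    rw [hφ ξ hξ y (Finset.mem_filter.1 hy).2, hφ η hη y (Finset.mem_filter.1 hy).2, map_mul,
      Complex.conj_natCast]
    ring
  have hr : (p : ℂ) ^ blockDefect p b * rg p φ φ = 1 := by
    have h1 := sum_rg_self hM hb
    rw [hl, Finset.sum_congr rfl fun (ξ : b) _ => hrg ξ ξ.2 ξ ξ.2, ← Finset.sum_mul] at h1
    rw [← hd', Nat.cast_one] at *
    rw [← h1]
    congr 1
    exact Finset.sum_congr rfl fun ξ _ => by ring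
  refine ⟨φ, d, hφ, fun ξ hξ η hη => ?_, hd'⟩
  rw [hrg ξ hξ η hη]
  linear_combination (d ξ * d η : ℂ) * hr

end one

variable {G : Type*} [Group G] [Finite G] {M : Ideal AlgInt}

/-- Conjugation by an element of the normalizer. -/
def normIso {H : Subgroup G} {g : G} (hg : g ∈ Subgroup.normalizer (H : Set G)) : H ≃* H where
  toFun := fun c => ⟨g * c * g⁻¹, (Subgroup.mem_normalizer_iff.1 hg c).1 c.2⟩
  invFun := fun c => ⟨g⁻¹ * c * g, (Subgroup.mem_normalizer_iff.1 hg _).2 (by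
        have : g * (g⁻¹ * (c : G) * g) * g⁻¹ = c := by group
        rw [this]; exact c.2)⟩
  left_inv := fun c => Subtype.ext (by simp [mul_assoc])
  right_inv := fun c => Subtype.ext (by simp [mul_assoc])
  map_mul' := fun c d => Subtype.ext (by simp [mul_assoc])

theorem normIso_coe {H : Subgroup G} {g : G} (hg : g ∈ Subgroup.normalizer (H : Set G)) (c : H) :
    ((normIso hg c : H) : G) = g * c * g⁻¹ := rfl

theorem orderOf_conj' (g c : G) : orderOf (g * c * g⁻¹) = orderOf c := by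
  have h := orderOf_injective (MulAut.conj g).toMonoidHom (MulAut.conj g).injective c
  exact h

/-- Conjugation of columns. -/
theorem wt_conj {p : ℕ} [Fact p.Prime] {u u' g : G} {H : Subgroup G} [Fintype H]
    (hg : g ∈ Subgroup.normalizer (H : Set G)) (hu : g * u * g⁻¹ = u') {ψ : G → ℂ}
    (hψ : IsClassFunction G ψ) {η η' : H → ℂ} (h : IsConjCharOf H g η η') :
    wt p u' ψ η' = wt p u ψ η := by
  classical
  rw [Cfsg.Agent.H639.wt_eq_sum, Cfsg.Agent.H639.wt_eq_sum]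
  congr 1
  let σ : H ≃* H := normIso hg
  have hord : ∀ c : H, orderOf (σ c) = orderOf c := by
    intro c
    rw [← Subgroup.orderOf_coe, ← Subgroup.orderOf_coe]
    exact orderOf_conj' _ _
  symm
  refine Finset.sum_bij (fun c _ => σ c) ?_ ?_ ?_ ?_
  · intro c hc
    rw [Finset.mem_filter] at hc ⊢
    exact ⟨Finset.mem_univ _, by rw [hord]; exact hc.2⟩
  · intro c _ c' _ hcc
    exact σ.injective hcc
  · intro c hc
    rw [Finset.mem_filter] at hc
    refine ⟨σ.symm c, ?_, σ.apply_symm_apply c⟩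
    rw [Finset.mem_filter]
    refine ⟨Finset.mem_univ _, ?_⟩
    rw [← hord, σ.apply_symm_apply]
    exact hc.2
  · intro c _
    have h1 : η' (σ c) = η c := h c (σ c) rfl
    have h2 : ψ (u' * ((σ c : H) : G)) = ψ (u * (c : G)) := by
      have h3 : u' * ((σ c : H) : G) = g * (u * (c : G)) * g⁻¹ := by
        rw [show ((σ c : H) : G) = g * (c : G) * g⁻¹ from rfl, ← hu]; group
      rw [h3, hψ]
    rw [h1, h2]

/-- The conjugate of a member `η` by `g⁻¹`; if it is in `b`, then `g` stabilizes `b`. -/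
theorem exists_conj (hM : IsPModular 2 M) {H : Subgroup G} {g : G}
    (hg : g ∈ Subgroup.normalizer (H : Set G)) {b : Set (IrrCharacter H)} (hb : IsPBlock M b)
    {η : IrrCharacter H} (hη : η ∈ b) :
    ∃ η' : IrrCharacter H, IsConjCharOf H g (η' : H → ℂ) (η : H → ℂ) ∧
      (η' ∈ b → StabilizesBlock H b g) := by
  have := isPrime_of_isPModular hM
  have key : ∀ χ : IrrCharacter H, IsConjCharOf H g (χ : H → ℂ)
      (Cfsg.Agent.H649.irrMap (normIso hg) χ : H → ℂ) := by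
    intro χ k k' hk
    have h1 : k' = normIso hg k := Subtype.ext hk
    rw [h1, Cfsg.Agent.H649.irrMap_apply']
  refine ⟨Cfsg.Agent.H649.irrMap (normIso hg).symm η, ?_, fun h => ?_⟩
  · have h1 := key (Cfsg.Agent.H649.irrMap (normIso hg).symm η)
    rwa [Cfsg.Agent.H649.irrMap_irrMap_symm] at h1
  · have h2 : Cfsg.Agent.H649.blkMap (normIso hg) b = b := by
      refine isPBlock_eq_of_mem (Cfsg.Agent.H649.isPBlock_blkMap hb) hb (χ := η) ?_ hη
      rw [Cfsg.Agent.H649.mem_blkMap]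
      exact h
    refine ⟨hg, fun χ hχ => ⟨Cfsg.Agent.H649.irrMap (normIso hg) χ, ?_, key χ⟩⟩
    have h3 := (Cfsg.Agent.H649.irrMap_mem_blkMap (e := normIso hg) (B := b) (χ := χ)).2 hχ
    rwa [h2] at h3

/-- Symmetric coefficients. -/
theorem even_sum_of_symm {j : ℕ} (hj : 2 ≤ j) {a : ℕ → ℤ} {t : ℕ}
    (ht : t = 2 ^ (j + 1) - 1 ∨ t = 2 ^ j - 1)
    (h : ∀ k, Odd k → ev j a (t * k) = ev j a k) :
    (2 : ℤ) ∣ (∑ m ∈ Finset.range (2 ^ j), a m) - a 0 := by
  have hpos : 0 < 2 ^ j := by positivity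
  obtain ⟨N, hN⟩ : ∃ N, 2 ^ j = N + 1 := ⟨2 ^ j - 1, by omega⟩
  -- the sign
  obtain ⟨ε, hε, hw⟩ : ∃ ε : ℤ, (ε = 1 ∨ ε = -1) ∧ ∀ m k : ℕ, Odd k → m < 2 ^ j → 0 < m →
      w j ^ (m * (t * k)) = ((-(ε ^ m) : ℤ) : ℂ) * w j ^ ((2 ^ j - m) * k) := by
    have hcancel : ∀ m k : ℕ, Odd k → m < 2 ^ j → w j ^ (m * k) * w j ^ ((2 ^ j - m) * k) = -1 := by
      intro m k hk hm
      rw [← pow_add, ← add_mul, Nat.add_sub_cancel' hm.le, pow_mul, w_pow_half, hk.neg_one_pow]
    rcases ht with rfl | rfl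
    · refine ⟨1, Or.inl rfl, fun m k hk hm _ => ?_⟩
      have h1 : w j ^ (m * ((2 ^ (j + 1) - 1) * k)) * w j ^ (m * k) = 1 := by
        rw [← pow_add, ← mul_add]
        have : (2 ^ (j + 1) - 1) * k + k = 2 ^ (j + 1) * k := by
          have : 1 ≤ 2 ^ (j + 1) := Nat.one_le_two_pow
          rw [Nat.sub_mul, one_mul]
          have := Nat.mul_le_mul_right k this
          omega
        rw [this, mul_left_comm, pow_mul, w_pow_card, one_pow]
      have h2 := hcancel m k hk hm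
      have h3 : w j ^ (m * k) ≠ 0 := pow_ne_zero _ (w_ne_zero j)
      apply mul_right_cancel₀ h3
      rw [h1]
      push_cast
      rw [one_pow, mul_assoc, mul_comm (w j ^ ((2 ^ j - m) * k)), h2]
      norm_num
    · refine ⟨-1, Or.inr rfl, fun m k hk hm _ => ?_⟩
      have h1 : w j ^ (m * ((2 ^ j - 1) * k)) * w j ^ (m * k) = (-1) ^ m := by
        rw [← pow_add, ← mul_add]
        have : (2 ^ j - 1) * k + k = 2 ^ j * k := by
          have : 1 ≤ 2 ^ j := Nat.one_le_two_pow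
          rw [Nat.sub_mul, one_mul]
          have := Nat.mul_le_mul_right k this
          omega
        rw [this, mul_left_comm, pow_mul, w_pow_half, mul_comm m k, pow_mul, hk.neg_one_pow]
      have h2 := hcancel m k hk hm
      have h3 : w j ^ (m * k) ≠ 0 := pow_ne_zero _ (w_ne_zero j)
      apply mul_right_cancel₀ h3
      rw [h1]
      push_cast
      rw [mul_assoc, mul_comm (w j ^ ((2 ^ j - m) * k)), h2]
      ring
  let b : ℕ → ℤ := fun m => if m = 0 then a 0 else -(ε ^ (2 ^ j - m)) * a (2 ^ j - m)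
  have hb0 : b 0 = a 0 := if_pos rfl
  have hbs : ∀ m, b (m + 1) = -(ε ^ (2 ^ j - (m + 1))) * a (2 ^ j - (m + 1)) := fun m =>
    if_neg (Nat.succ_ne_zero m)
  have h1 : ∀ k, Odd k → ev j a (t * k) = ev j b k := by
    intro k hk
    rw [ev_def, ev_def, hN, Finset.sum_range_succ', Finset.sum_range_succ',
      ← Finset.sum_range_reflect]
    congr 1
    · refine Finset.sum_congr rfl fun m hm => ?_
      rw [Finset.mem_range] at hm
      have h2 : N - 1 - m + 1 = 2 ^ j - (m + 1) := by omega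
      rw [h2, hbs, hw _ k hk (by omega) (by omega)]
      have h3 : 2 ^ j - (2 ^ j - (m + 1)) = m + 1 := by omega
      rw [h3]
      push_cast
      ring
    · simp [hb0]
  have h6 : ∀ m < 2 ^ j, a m = b m := fun m hm => coeff_eq_of_ev_eq (fun k hk => by
    rw [← h1 k (mem_oddSet.1 hk).2, h k (mem_oddSet.1 hk).2]) hm
  have hε1 : ∀ n : ℕ, ((ε ^ n : ℤ) : ZMod 2) = 1 := by
    intro n
    rcases hε with rfl | rfl
    · simp
    · push_cast
      rw [show (-1 : ZMod 2) = 1 from rfl, one_pow]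
  have h7 : ∀ m ∈ Finset.range N, (a (m + 1) : ZMod 2) = (a (2 ^ j - (m + 1)) : ZMod 2) := by
    intro m hm
    rw [Finset.mem_range] at hm
    have h8 := h6 (m + 1) (by omega)
    rw [hbs] at h8
    rw [h8]
    push_cast
    have h9 := hε1 (2 ^ j - (m + 1))
    push_cast at h9
    rw [h9]
    generalize (a (2 ^ j - (m + 1)) : ZMod 2) = z
    revert z
    decide
  have hsum : ∑ m ∈ Finset.range N, (a (m + 1) : ZMod 2) = 0 := by
    refine Finset.sum_involution (fun m _ => N - 1 - m) ?_ ?_ ?_ ?_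
    · intro m hm
      have h8 := h7 m hm
      rw [Finset.mem_range] at hm
      have h9 : N - 1 - m + 1 = 2 ^ j - (m + 1) := by omega
      rw [h9, ← h8]
      generalize (a (m + 1) : ZMod 2) = z
      revert z
      decide
    · intro m hm hne heq
      apply hne
      rw [Finset.mem_range] at hm
      -- the middle coefficient vanishes
      have hm2 : 2 ^ j - (m + 1) = m + 1 := by omega
      have h8 := h6 (m + 1) (by omega)
      rw [hbs, hm2] at h8
      have h9 : Even (m + 1) := by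
        obtain ⟨i, rfl⟩ : ∃ i, j = i + 2 := ⟨j - 2, by omega⟩
        have h10 : 2 * (m + 1) = 2 ^ (i + 2) := by omega
        rw [pow_succ, pow_succ] at h10
        exact ⟨2 ^ i, by omega⟩
      have h10 : ε ^ (m + 1) = 1 := by
        rcases hε with rfl | rfl
        · simp
        · exact h9.neg_one_pow
      rw [h10] at h8
      have h11 : a (m + 1) = 0 := by linarith
      rw [h11]
      simp
    · intro m hm
      rw [Finset.mem_range] at hm ⊢
      omega
    · intro m hm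
      rw [Finset.mem_range] at hm
      omega
  rw [hN, Finset.sum_range_succ', add_sub_cancel_right]
  exact (ZMod.intCast_zmod_eq_zero_iff_dvd _ 2).1 (by push_cast; exact hsum)

/-- **The bound** for a subsection `(u, b)` with `l(b) = 1` and `N_G(⟨u⟩, b) / C_G(u)` of order two. -/
theorem card_height_zero_le (hM : IsPModular 2 M) {u : G} {j : ℕ} (hj : 2 ≤ j)
    (hu : orderOf u = 2 ^ (j + 1)) {H : Subgroup G} [Fintype H]
    (hH : H = Subgroup.centralizer ({u} : Set G)) {b : Set (IrrCharacter H)}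
    {B : Set (IrrCharacter G)} (hind : IsInducedBlock M H b B) (hl : blockRank 2 b = 1)
    {s : G} {t : ℕ} (ht : t = 2 ^ (j + 1) - 1 ∨ t = 2 ^ j - 1) (hs : s * u * s⁻¹ = u ^ t)
    (hsb : StabilizesBlock H b s)
    (hW : ∀ (g : G) (w : ℕ), g * u * g⁻¹ = u ^ w → StabilizesBlock H b g →
      u ^ w = u ∨ u ^ w = u ^ t) :
    2 ^ j * Nat.card {χ : IrrCharacter G // χ ∈ B ∧ blockHeight 2 B (χ : G → ℂ) = 0} ≤
      2 ^ (blockDefect 2 b + 1) := by
  classical
  have hp2 : Fact (Nat.Prime 2) := ⟨Nat.prime_two⟩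
  have := isPrime_of_isPModular hM
  have := Core.finite_irr (G := H)
  have := Fintype.ofFinite (IrrCharacter H)
  have := Core.finite_irr (G := G)
  have := Fintype.ofFinite (IrrCharacter G)
  have : Fintype B := Fintype.ofFinite B
  have : Fintype b := Fintype.ofFinite b
  have := Fintype.ofFinite G
  have huq : u ^ 2 ^ (j + 1) = 1 := by rw [← hu]; exact pow_orderOf_eq_one u
  obtain ⟨n, e, hE⟩ := exists_exp hH huq
  obtain ⟨φ, d, hφ, hrg, hdsum⟩ := exists_rank_one hM hind.1 hl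
  have hd0 : ∀ ξ ∈ b, (ξ : H → ℂ) 1 = (d ξ : ℂ) * φ 1 := fun ξ hξ =>
    hφ ξ hξ 1 (by rw [orderOf_one]; decide)
  obtain ⟨η₀, hη₀⟩ := isPBlock_nonempty hM hind.1
  have hη₀1 : (η₀ : H → ℂ) 1 ≠ 0 := Core.isIrr_apply_one_ne_zero η₀.2
  have hφ1 : φ 1 ≠ 0 := by
    intro h0
    rw [hd0 η₀ hη₀, h0, mul_zero] at hη₀1
    exact hη₀1 rfl
  have hdne : (d η₀ : ℂ) ≠ 0 := by
    intro h0
    rw [hd0 η₀ hη₀, h0, zero_mul] at hη₀1
    exact hη₀1 rfl
  set q := blockDefect 2 b with hq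
  have h2q : ((2 : ℕ) : ℂ) ^ q ≠ 0 := pow_ne_zero _ (by norm_num)
  -- the columns
  let D : ℕ → IrrCharacter G → ℂ := fun k ψ =>
    ∑ ξ : b, (((n ψ ξ : ℤ) * (d ξ : ℤ) : ℤ) : ℂ) * e ξ ^ k
  have hwt : ∀ (k : ℕ) (ψ : IrrCharacter G) (η : IrrCharacter H), η ∈ b →
      ((2 : ℕ) : ℂ) ^ q * wt 2 (u ^ k) (ψ : G → ℂ) (η : H → ℂ) = D k ψ * d η := by
    intro k ψ η hη
    rw [wt_eq_sum hM hE hind.1 ψ k hη, Finset.mul_sum, Finset.sum_mul]
    refine Finset.sum_congr rfl fun ξ _ => ?_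
    have h1 := hrg ξ ξ.2 η hη
    push_cast at h1 ⊢
    linear_combination (n ψ ξ : ℂ) * e ξ ^ k * h1
  have hcen : ∀ k : ℕ, Odd k → H = Subgroup.centralizer ({u ^ k} : Set G) := by
    intro k hk
    rw [hH, centralizer_odd_pow huq hk]
  have hord : ∀ k : ℕ, ∃ i : ℕ, orderOf (u ^ k) = 2 ^ i := by
    intro k
    have h1 : orderOf (u ^ k) ∣ 2 ^ (j + 1) := by rw [← hu]; exact orderOf_pow_dvd k
    obtain ⟨i, -, hi⟩ := (Nat.dvd_prime_pow Nat.prime_two).1 h1
    exact ⟨i, hi⟩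
  have htodd : Odd t := by
    rcases ht with rfl | rfl
    · exact Nat.Even.sub_odd Nat.one_le_two_pow (by rw [pow_succ]; exact even_two.mul_left _)
        odd_one
    · obtain ⟨i, rfl⟩ : ∃ i, j = i + 1 := ⟨j - 1, by omega⟩
      exact Nat.Even.sub_odd Nat.one_le_two_pow (by rw [pow_succ]; exact even_two.mul_left _)
        odd_one
  -- symmetry
  have hsymm : ∀ (k : ℕ) (ψ : IrrCharacter G), D (t * k) ψ = D k ψ := by
    intro k ψ
    obtain ⟨η', hη', hc⟩ := hsb.2 η₀ hη₀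
    have h1 : wt 2 (u ^ (t * k)) (ψ : G → ℂ) (η' : H → ℂ) =
        wt 2 (u ^ k) (ψ : G → ℂ) (η₀ : H → ℂ) := by
      refine wt_conj hsb.1 ?_ (Core.isIrr_isClassFunction ψ.2) hc
      rw [← conj_pow, hs, ← pow_mul]
    have h2 := hwt (t * k) ψ η' hη'
    have h3 := hwt k ψ η₀ hη₀
    rw [h1, h3] at h2
    have h4 : (η' : H → ℂ) 1 = (η₀ : H → ℂ) 1 := hc 1 1 (by simp)
    rw [hd0 η' hη', hd0 η₀ hη₀] at h4
    rw [mul_right_cancel₀ hφ1 h4] at h2
    exact (mul_right_cancel₀ hdne h2).symm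
  -- orthogonality
  have hprod : ∀ k k' : ℕ, (∑ ψ : B, D k ψ * conj (D k' ψ)) * (d η₀ * d η₀) =
      ((2 : ℕ) : ℂ) ^ q * ((2 : ℕ) : ℂ) ^ q *
      ∑ ψ : B, wt 2 (u ^ k) (ψ : G → ℂ) (η₀ : H → ℂ) *
        conj (wt 2 (u ^ k') (ψ : G → ℂ) (η₀ : H → ℂ)) := by
    intro k k'
    rw [Finset.sum_mul, Finset.mul_sum]
    refine Finset.sum_congr rfl fun ψ _ => ?_
    have h4 := hwt k ψ η₀ hη₀
    have h5 := congrArg conj (hwt k' ψ η₀ hη₀)
    rw [map_mul, map_mul, map_pow, Complex.conj_natCast, Complex.conj_natCast] at h5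
    linear_combination (-conj (D k' ψ) * d η₀) * h4 -
      (((2 : ℕ) : ℂ) ^ q * wt 2 (u ^ k) (((ψ : B) : IrrCharacter G) : G → ℂ) (η₀ : H → ℂ)) * h5
  have hself : ∀ k : ℕ, Odd k → ∑ ψ : B, D k ψ * conj (D k ψ) = ((2 : ℕ) : ℂ) ^ q := by
    intro k hk
    have h1 := sum_wt_mul_conj_wt hM (hord k) (hcen k hk) hind hη₀ hη₀
    have h2 := hrg η₀ hη₀ η₀ hη₀
    have h3 : (∑ ψ : B, D k ψ * conj (D k ψ)) * (d η₀ * d η₀) =
        ((2 : ℕ) : ℂ) ^ q * (d η₀ * d η₀) := by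
      rw [hprod k k, h1, ← h2]
      ring
    exact mul_right_cancel₀ (mul_ne_zero hdne hdne) h3
  have horth : ∀ k k' : ℕ, Odd k → Odd k' → u ^ k' ≠ u ^ k → u ^ k' ≠ u ^ (t * k) →
      ∑ ψ : B, D k ψ * conj (D k' ψ) = 0 := by
    intro k k' hk hk' hne hnet
    have hzero : ∑ ψ : B, wt 2 (u ^ k) (ψ : G → ℂ) (η₀ : H → ℂ) *
        conj (wt 2 (u ^ k') (ψ : G → ℂ) (η₀ : H → ℂ)) = 0 := by
      by_cases hconj : IsConj (u ^ k) (u ^ k')
      · obtain ⟨g, hg⟩ := isConj_iff.1 hconj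
        -- `g` normalizes `H`
        have hgn : g ∈ Subgroup.normalizer (H : Set G) := by
          rw [Subgroup.mem_normalizer_iff]
          intro c
          have e1 : c ∈ H ↔ c * u ^ k = u ^ k * c := by
            rw [hcen k hk, Subgroup.mem_centralizer_singleton_iff]
          have e2 : g * c * g⁻¹ ∈ H ↔ (g * c * g⁻¹) * u ^ k' = u ^ k' * (g * c * g⁻¹) := by
            rw [hcen k' hk', Subgroup.mem_centralizer_singleton_iff]
          rw [e1, e2, ← hg]
          constructor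
          · intro h
            calc (g * c * g⁻¹) * (g * u ^ k * g⁻¹) = g * (c * u ^ k) * g⁻¹ := by group
              _ = g * (u ^ k * c) * g⁻¹ := by rw [h]
              _ = (g * u ^ k * g⁻¹) * (g * c * g⁻¹) := by group
          · intro h
            have h' : g * (c * u ^ k) * g⁻¹ = g * (u ^ k * c) * g⁻¹ := by
              calc g * (c * u ^ k) * g⁻¹ = (g * c * g⁻¹) * (g * u ^ k * g⁻¹) := by group
                _ = (g * u ^ k * g⁻¹) * (g * c * g⁻¹) := h
                _ = g * (u ^ k * c) * g⁻¹ := by group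
            exact mul_left_cancel (mul_right_cancel h')
        obtain ⟨η', hη', hst⟩ := exists_conj hM hgn hind.1 hη₀
        have h1 : ∀ ψ : IrrCharacter G, wt 2 (u ^ k') (ψ : G → ℂ) (η₀ : H → ℂ) =
            wt 2 (u ^ k) (ψ : G → ℂ) (η' : H → ℂ) := fun ψ =>
          wt_conj hgn hg (Core.isIrr_isClassFunction ψ.2) hη'
        simp only [h1]
        refine Cfsg.Agent.H639.sum_wt_ne_block hM (hord k) (hcen k hk) hind.2.1 hind.1 hη₀ ?_
        intro hmem
        -- `u` is a power of `u ^ k`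
        obtain ⟨m, hm⟩ : ∃ m : ℕ, (u ^ k) ^ m = u := by
          have hcop : (orderOf u).Coprime k := by
            rw [hu]
            exact Nat.Coprime.pow_left _ (Nat.coprime_two_left.2 hk)
          exact exists_pow_eq_self_of_coprime hcop.symm
        have hgu : g * u * g⁻¹ = u ^ (k' * m) := by
          conv_lhs => rw [← hm]
          rw [← conj_pow, hg, ← pow_mul]
        have hkm : u ^ (k * m) = u := by rw [pow_mul, hm]
        rcases hW g (k' * m) hgu (hst hmem) with h | h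
        · apply hne
          have h2 : (u ^ (k' * m)) ^ k = u ^ k' := by
            rw [← pow_mul, show k' * m * k = (k * m) * k' by ring, pow_mul, hkm]
          rw [← h2, h]
        · apply hnet
          have h2 : (u ^ (k' * m)) ^ k = u ^ k' := by
            rw [← pow_mul, show k' * m * k = (k * m) * k' by ring, pow_mul, hkm]
          rw [← h2, h, ← pow_mul]
      · exact Cfsg.Agent.H639.sum_wt_not_conj hM (hord k) (hord k') hconj (hcen k hk)
          (hcen k' hk') hind.2.1 _ _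
    have h3 : (∑ ψ : B, D k ψ * conj (D k' ψ)) * (d η₀ * d η₀) = 0 := by
      rw [hprod k k', hzero, mul_zero]
    rcases mul_eq_zero.1 h3 with h | h
    · exact h
    · exact absurd h (mul_ne_zero hdne hdne)
  -- coefficients
  have hcoef : ∀ ψ : IrrCharacter G, ∃ a : ℕ → ℤ, ∀ k, Odd k → D k ψ = ev j a k := by
    intro ψ
    obtain ⟨a, ha⟩ := exists_ev_sum (Finset.univ : Finset b) (j := j)
      (fun ξ => (n ψ ξ : ℤ) * (d ξ : ℤ)) (fun ξ => e ξ) (fun ξ _ => hE.root _)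
    exact ⟨a, fun k hk => ha k hk⟩
  choose a ha using hcoef
  -- the constant coefficients are odd at height zero
  have hodd : ∀ ψ : IrrCharacter G, ψ ∈ B → blockHeight 2 B (ψ : G → ℂ) = 0 → a ψ 0 ≠ 0 := by
    intro ψ hψ hψ0 ha0
    have h1 := even_sum_of_symm hj ht (a := a ψ) (fun k hk => by
      rw [← ha ψ _ (htodd.mul hk), ← ha ψ k hk, hsymm])
    rw [ha0, sub_zero, ← memLocalIdeal_ev_iff hM j (a ψ) 1, ← ha ψ 1 odd_one] at h1
    have h2 := not_memLocalIdeal_contr hM hE hind hψ hψ hψ0 hψ0 (k := 1) (hcen 1 odd_one)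
    apply h2
    rw [contr_def, Finset.mul_sum]
    have h3 : ∀ η : b, ((2 : ℕ) : ℂ) ^ q * (wt 2 (u ^ 1) (ψ : G → ℂ) (η : H → ℂ) *
        conj (wt 2 (u ^ 1) (ψ : G → ℂ) (η : H → ℂ))) =
        D 1 ψ * conj (D 1 ψ) * ((d η : ℂ) ^ 2 * (((2 : ℕ) : ℂ) ^ q)⁻¹) := by
      intro η
      have h4 := hwt 1 ψ η η.2
      have h5 := congrArg conj h4
      rw [map_mul, map_mul, map_pow, Complex.conj_natCast, Complex.conj_natCast] at h5
      have h6 : ((2 : ℕ) : ℂ) ^ q * (((2 : ℕ) : ℂ) ^ q)⁻¹ = 1 := mul_inv_cancel₀ h2q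
      apply mul_left_cancel₀ h2q
      linear_combination (conj (D 1 ψ) * d η) * h4 +
        (((2 : ℕ) : ℂ) ^ q * wt 2 (u ^ 1) (ψ : G → ℂ) (η : H → ℂ)) * h5 -
        (D 1 ψ * conj (D 1 ψ) * (d η : ℂ) ^ 2) * h6
    rw [Finset.sum_congr rfl fun η _ => h3 η, ← Finset.mul_sum, ← Finset.sum_mul]
    have h4 : (∑ η : b, (d η : ℂ) ^ 2) * (((2 : ℕ) : ℂ) ^ q)⁻¹ = 1 := by
      rw [hdsum, mul_inv_cancel₀ h2q]
    rw [h4, mul_one]
    refine memLocalIdeal_mul_right h1 ?_
    have h7 : conj (D 1 ψ) = ∑ ξ : b, (((n ψ ξ : ℤ) * (d ξ : ℤ) : ℤ) : ℂ) * conj (e ξ) := by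
      simp only [D]
      rw [map_sum]
      refine Finset.sum_congr rfl fun ξ _ => ?_
      rw [map_mul, map_intCast, pow_one]
    rw [h7]
    refine memLocalRing_sum fun ξ _ => memLocalRing_mul (memLocalRing_intCast _) ?_
    refine memLocalRing_of_isIntegral (IsIntegral.of_pow (n := 2 ^ (j + 1)) (by positivity) ?_)
    rw [← map_pow, hE.root, map_one]
    exact isIntegral_one
  -- the sum of squares
  have hsq : ((2 : ℂ) ^ j) ^ 2 * ∑ ψ : B, ((a ψ 0 : ℤ) : ℂ) ^ 2 =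
      ∑ k ∈ oddSet (j + 1), (((oddSet (j + 1)).filter fun k' => u ^ k' = u ^ k ∨
        u ^ k' = u ^ (t * k)).card : ℂ) * ((2 : ℕ) : ℂ) ^ q := by
    have h1 : ∀ ψ : B, ((2 : ℂ) ^ j) ^ 2 * ((a ψ 0 : ℤ) : ℂ) ^ 2 =
        ∑ k ∈ oddSet (j + 1), ∑ k' ∈ oddSet (j + 1), D k ψ * conj (D k' ψ) := by
      intro ψ
      have h2 : ∑ k ∈ oddSet (j + 1), D k ψ = 2 ^ j * (a ψ 0 : ℂ) := by
        rw [← sum_ev]
        exact Finset.sum_congr rfl fun k hk => ha ψ k (mem_oddSet.1 hk).2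
      have h3 : ∑ k ∈ oddSet (j + 1), conj (D k ψ) = 2 ^ j * (a ψ 0 : ℂ) := by
        rw [← map_sum, h2, map_mul, map_pow, map_ofNat, map_intCast]
      rw [← Finset.sum_mul_sum, h2, h3]
      ring
    rw [Finset.mul_sum, Finset.sum_congr rfl fun ψ _ => h1 ψ, Finset.sum_comm]
    refine Finset.sum_congr rfl fun k hk => ?_
    rw [Finset.sum_comm, Finset.card_filter, Nat.cast_sum, Finset.sum_mul]
    refine Finset.sum_congr rfl fun k' hk' => ?_
    have hko := (mem_oddSet.1 hk).2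
    have hko' := (mem_oddSet.1 hk').2
    have hDeq : ∀ k₁ k₂ : ℕ, u ^ k₁ = u ^ k₂ → Odd k₁ → Odd k₂ → ∀ ψ, D k₁ ψ = D k₂ ψ := by
      intro k₁ k₂ h12 _ _ ψ
      have e1 := hwt k₁ ψ η₀ hη₀
      have e2 := hwt k₂ ψ η₀ hη₀
      rw [h12, e2] at e1
      exact (mul_right_cancel₀ hdne e1).symm
    split_ifs with h
    · rw [Nat.cast_one, one_mul, ← hself k hko]
      refine Finset.sum_congr rfl fun ψ _ => ?_
      rcases h with h | h
      · rw [hDeq k' k h hko' hko]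
      · rw [hDeq k' (t * k) h hko' (htodd.mul hko), hsymm]
    · push Not at h
      rw [horth k k' hko hko' h.1 h.2]
      simp
  have hcard2 : ∀ k ∈ oddSet (j + 1), ((oddSet (j + 1)).filter fun k' => u ^ k' = u ^ k ∨
        u ^ k' = u ^ (t * k)).card ≤ 2 := by
    intro k hk
    refine (Finset.card_le_card (t := {k, (t * k) % 2 ^ (j + 1)}) ?_).trans Finset.card_le_two
    intro k' hk'
    rw [Finset.mem_filter, mem_oddSet] at hk'
    rw [Finset.mem_insert, Finset.mem_singleton]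
    rcases hk'.2 with h | h
    · left
      rw [pow_inj_mod, hu, Nat.mod_eq_of_lt hk'.1.1, Nat.mod_eq_of_lt (mem_oddSet.1 hk).1] at h
      exact h
    · right
      rw [pow_inj_mod, hu, Nat.mod_eq_of_lt hk'.1.1] at h
      exact h
  have hint : ((2 : ℤ) ^ j) ^ 2 * ∑ ψ : B, (a ψ 0) ^ 2 =
      ∑ k ∈ oddSet (j + 1), (((oddSet (j + 1)).filter fun k' => u ^ k' = u ^ k ∨
        u ^ k' = u ^ (t * k)).card : ℤ) * 2 ^ q := by
    exact_mod_cast hsq
  have hle : ((2 : ℤ) ^ j) ^ 2 * ∑ ψ : B, (a ψ 0) ^ 2 ≤ 2 ^ j * (2 * 2 ^ q) := by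
    rw [hint]
    refine (Finset.sum_le_card_nsmul _ _ (2 * 2 ^ q) fun k hk => ?_).trans ?_
    · have h1 : (((oddSet (j + 1)).filter fun k' => u ^ k' = u ^ k ∨
        u ^ k' = u ^ (t * k)).card : ℤ) ≤ 2 := by exact_mod_cast hcard2 k hk
      exact mul_le_mul_of_nonneg_right h1 (by positivity)
    · rw [card_oddSet, nsmul_eq_mul]
      push_cast
      exact le_rfl
  have hle2 : (2 : ℤ) ^ j * ∑ ψ : B, (a ψ 0) ^ 2 ≤ 2 * 2 ^ q := by
    have hpos : (0 : ℤ) < 2 ^ j := by positivity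
    refine le_of_mul_le_mul_left ?_ hpos
    calc (2 : ℤ) ^ j * (2 ^ j * ∑ ψ : B, (a ψ 0) ^ 2) = (2 ^ j) ^ 2 * ∑ ψ : B, (a ψ 0) ^ 2 := by ring
      _ ≤ _ := hle
  have hcount : (Nat.card {χ : IrrCharacter G // χ ∈ B ∧ blockHeight 2 B (χ : G → ℂ) = 0} : ℤ) ≤
      ∑ ψ : B, (a ψ 0) ^ 2 := by
    have h1 : Nat.card {χ : IrrCharacter G // χ ∈ B ∧ blockHeight 2 B (χ : G → ℂ) = 0} =
        (Finset.univ.filter fun ψ : B => blockHeight 2 B ((ψ : IrrCharacter G) : G → ℂ) = 0).card := by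
      rw [← Fintype.card_subtype, ← Nat.card_eq_fintype_card]
      exact Nat.card_congr (Equiv.subtypeSubtypeEquivSubtypeInter _ _).symm
    rw [h1, Finset.card_eq_sum_ones, Nat.cast_sum]
    refine (Finset.sum_le_sum fun ψ hψ => ?_).trans
      (Finset.sum_le_sum_of_subset_of_nonneg (Finset.filter_subset _ _) fun ψ _ _ => sq_nonneg _)
    rw [Finset.mem_filter] at hψ
    have h2 := hodd ψ ψ.2 hψ.2
    have h3 : 0 < (a ψ 0) ^ 2 := by positivity
    push_cast
    omega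
  have hfin : (2 : ℤ) ^ j *
      (Nat.card {χ : IrrCharacter G // χ ∈ B ∧ blockHeight 2 B (χ : G → ℂ) = 0} : ℤ) ≤
      2 ^ (q + 1) := by
    refine (mul_le_mul_of_nonneg_left hcount (by positivity)).trans (hle2.trans ?_)
    rw [pow_succ]
    linarith
  exact_mod_cast hfin

end Cfsg.Agent.H617.RankOneCol
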