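import Mathlib
import Cfsg.Agent.H617.AbelRank
import Cfsg.Agent.H617.RankOneCol
import Cfsg.Agent.H652.CtrOne
import Cfsg.Agent.H658.Domin
import Cfsg.Agent.H658.MajorVal
import Cfsg.Agent.H662.IndLocal

/-!
# Columns of contributions at elements of an abelian defect group

`a = (P, e)` maximal, `P` abelian.

* `pow_blockDefect`: `2 ^ d(b_u) = |P|`;
* `exists_col`: for `l(b_u) = 1`, `u ^ 2 = 1`, `|P| ctr u χ ψ = w χ * w ψ` with integers `w χ`;
* `ctr_self_ne_zero`;
* `ctr_one`: the contribution of `1` is the Gram form;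
* `ctr_central_mul`: translation by a central element.
-/

set_option autoImplicit false
set_option linter.unusedSectionVars false

open Cfsg
open scoped ComplexConjugate

namespace Cfsg.Agent.H617.StarCols

open Cfsg.Agent.H651 Cfsg.Agent.H649 Cfsg.Agent.Characters
open Cfsg.Agent.H652.DoubleCount Cfsg.Agent.H645.FusCount Cfsg.Agent.H650
open Cfsg.Agent.H645.TraceForm Cfsg.Agent.H645.LocMono Cfsg.Agent.H645.Watanabe
open Cfsg.Agent.H652.Ctr Cfsg.Agent.H652.CtrOne Cfsg.Agent.H613.RegGram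
open Cfsg.Agent.H613.Contrib Cfsg.Agent.H613.ContribVal
open Cfsg.Agent.H617.AbelRank Cfsg.Agent.H617.RankOneCol

universe u

variable {G : Type u} [Group G] [Fintype G] {M : Ideal AlgInt} [M.IsPrime]

section

variable (hM : IsPModular 2 M) {B : Set (IrrCharacter G)} {a : BrauerPairIdx G}
  (hmax : IsMaximalBrauerPair 2 M B a.1 a.2) (hab : ∀ x ∈ a.1, ∀ y ∈ a.1, x * y = y * x)

include hM hmax hab

omit hM hmax hab [Fintype G] [M.IsPrime] in
theorem sq_eq_one_iff_of_side {z : ℂ} (h : z ^ 2 = 1) : z = 1 ∨ z = -1 := by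
  have h1 : (z - 1) * (z + 1) = 0 := by linear_combination h
  rcases mul_eq_zero.1 h1 with h2 | h2
  · left; linear_combination h2
  · right; linear_combination h2

theorem pow_blockDefect {v : G} (hv : v ∈ a.1) :
    2 ^ blockDefect 2 (bP 2 M a v).2 = Nat.card a.1 := by
  obtain ⟨h1, h2⟩ := bP_spec hM hmax.1.1 hv
  obtain ⟨a', k1, k2, k3, k4, k5, k6⟩ := exists_loc hM hmax hab (Q := (bP 2 M a v).1)
    (f := (bP 2 M a v).2) h2
  have hQP : (bP 2 M a v).1 ≤ a.1 := LEIdx.le h2
  have hPC : a.1 ≤ Subgroup.centralizer ((bP 2 M a v).1 : Set G) := fun y hy =>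
    Subgroup.mem_centralizer_iff.2 fun q hq => hab q (hQP hq) y hy
  have hD' := Cfsg.Agent.H644.isDefectGroup_of_isMaximalBrauerPair hM k3
  have h3 := Cfsg.Agent.S0908.result 2 M hM _ k3.1.2.1 a'.1 hD'
  rw [← h3, k1]
  exact Nat.card_congr (Subgroup.subgroupOfEquivOfLe hPC).toEquiv

theorem pow_blockDefect' : 2 ^ blockDefect 2 B = Nat.card a.1 := by
  have hD' := Cfsg.Agent.H644.isDefectGroup_of_isMaximalBrauerPair hM hmax
  exact (Cfsg.Agent.S0908.result 2 M hM B hmax.1.2.1 a.1 hD').symm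

theorem blockDefect_bP {v : G} (hv : v ∈ a.1) :
    blockDefect 2 (bP 2 M a v).2 = blockDefect 2 B := by
  have h1 := pow_blockDefect hM hmax hab hv
  rw [← pow_blockDefect' hM hmax hab] at h1
  exact Nat.pow_right_injective le_rfl h1

theorem exists_col {v : G} (hv : v ∈ a.1) (hvv : v * v = 1)
    (hr : blockRank 2 (bP 2 M a v).2 = 1) :
    ∃ w : IrrCharacter G → ℤ, ∀ χ ψ : IrrCharacter G,
      (Nat.card a.1 : ℂ) * ctr 2 v (bP 2 M a v) (χ : G → ℂ) (ψ : G → ℂ) = w χ * w ψ := by
  classical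
  have : Finite (IrrCharacter (Subgroup.centralizer ((bP 2 M a v).1 : Set G))) :=
    Core.finite_irr
  have := Fintype.ofFinite (IrrCharacter (Subgroup.centralizer ((bP 2 M a v).1 : Set G)))
  have : Fintype (Subgroup.centralizer ((bP 2 M a v).1 : Set G)) := Fintype.ofFinite _
  have : Fintype (bP 2 M a v).2 := Fintype.ofFinite _
  have hcen := centralizer_bP hM hmax.1.1 hv
  obtain ⟨n, e, hE⟩ := exists_exp (u := v) hcen (q := 2) (by rw [pow_two, hvv])
  have hind := isInducedBlock_bP hM hmax hv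
  obtain ⟨φ, d, -, hrg, -⟩ := exists_rank_one hM hind.1 hr
  have hε : ∀ ξ, ∃ ε : ℤ, e ξ = ε := by
    intro ξ
    have h1 := hE.root ξ
    rcases sq_eq_one_iff_of_side h1 with h | h
    · exact ⟨1, by rw [h]; norm_num⟩
    · exact ⟨-1, by rw [h]; norm_num⟩
  choose ε hε using hε
  refine ⟨fun χ => ∑ ξ : (bP 2 M a v).2, (n χ ξ : ℤ) * ε ξ * d ξ, fun χ ψ => ?_⟩
  rw [ctr_eq_contr' hM (bP_spec hM hmax.1.1 hv).1 hind.1 (Core.isIrr_isClassFunction χ.2)
    (Core.isIrr_isClassFunction ψ.2)]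
  have h1 := contr_eq_sum hM hE hind.1 χ ψ (k := 1) (by rw [pow_one]; exact hcen)
  rw [pow_one] at h1
  rw [h1]
  push_cast
  rw [Finset.sum_mul_sum, Finset.mul_sum]
  refine Finset.sum_congr rfl fun ξ _ => ?_
  rw [Finset.mul_sum]
  refine Finset.sum_congr rfl fun η _ => ?_
  have h2 := hrg ξ ξ.2 η η.2
  have h3 : (Nat.card a.1 : ℂ) = ((2 : ℕ) : ℂ) ^ blockDefect 2 (bP 2 M a v).2 := by
    rw [← pow_blockDefect hM hmax hab hv]
    push_cast
    rfl
  rw [h3, hε ξ, hε η, map_intCast, pow_one]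
  linear_combination ((n χ ξ : ℂ) * (n ψ η : ℂ) * (ε ξ * ε η)) * h2

theorem ctr_self_ne_zero {v : G} (hv : v ∈ a.1) {χ : IrrCharacter G} (hχ : χ ∈ B) :
    ctr 2 v (bP 2 M a v) (χ : G → ℂ) (χ : G → ℂ) ≠ 0 := by
  classical
  have : Finite (IrrCharacter (Subgroup.centralizer ((bP 2 M a v).1 : Set G))) :=
    Core.finite_irr
  have : Fintype (Subgroup.centralizer ((bP 2 M a v).1 : Set G)) := Fintype.ofFinite _
  have : Fintype (bP 2 M a v).2 := Fintype.ofFinite _
  have hind := isInducedBlock_bP hM hmax hv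
  rw [ctr_eq_contr' hM (bP_spec hM hmax.1.1 hv).1 hind.1 (Core.isIrr_isClassFunction χ.2)
    (Core.isIrr_isClassFunction χ.2)]
  exact Cfsg.Agent.H658.contr_self_ne_zero hM
    (exists_orderOf_eq_pow hM hmax.1.1 Nat.prime_two hv) (centralizer_bP hM hmax.1.1 hv) hind
    (blockDefect_bP hM hmax hab hv) hχ

end

theorem coeff_eq_of_inducedIn {H₁ H₂ K : Subgroup G} (h : H₁ = H₂) (hK : K ≤ H₁)
    {c : Set (IrrCharacter K)} {f₁ : Set (IrrCharacter H₁)} {f₂ : Set (IrrCharacter H₂)}
    (h1 : IsInducedBlockIn M H₁ K c f₁) (h2 : IsInducedBlockIn M H₂ K c f₂) :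
    subgroupBlockCoeff H₁ f₁ = subgroupBlockCoeff H₂ f₂ := by
  subst h
  rw [Cfsg.Agent.H662.isInducedBlockIn_iff hK] at h1 h2
  have h3 := Cfsg.Agent.Blocks.CentralizerSum.inducedBlock_unique h1 h2
  rw [h3]

section central

variable (hM : IsPModular 2 M) {B : Set (IrrCharacter G)} {a : BrauerPairIdx G}
  (hmax : IsMaximalBrauerPair 2 M B a.1 a.2) (hab : ∀ x ∈ a.1, ∀ y ∈ a.1, x * y = y * x)

include hM hmax hab

theorem cfE_bP_congr {u w : G} (hu : u ∈ a.1) (hw : w ∈ a.1)
    (h : Subgroup.centralizer ({u} : Set G) = Subgroup.centralizer ({w} : Set G)) :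
    cfE (bP 2 M a u) = cfE (bP 2 M a w) := by
  obtain ⟨h1, h2⟩ := bP_spec hM hmax.1.1 hu
  obtain ⟨h3, h4⟩ := bP_spec hM hmax.1.1 hw
  have e1 := (Cfsg.Agent.H645.AbelPair.inducedIn_iff hM hmax.1.1.1 hab (LEIdx.le h2)
    hmax.1.1.2 (f := (bP 2 M a u).2)).2 h2
  have e2 := (Cfsg.Agent.H645.AbelPair.inducedIn_iff hM hmax.1.1.1 hab (LEIdx.le h4)
    hmax.1.1.2 (f := (bP 2 M a w).2)).2 h4
  exact coeff_eq_of_inducedIn (by rw [centralizer_bP hM hmax.1.1 hu, centralizer_bP hM hmax.1.1 hw, h])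
    (Subgroup.centralizer_le (LEIdx.le h2)) e1 e2

/-- Translation by a central element. -/
theorem ctr_central_mul {v : G} (hv : v ∈ a.1) (hvc : ∀ g : G, v * g = g * v) {u : G}
    (hu : u ∈ a.1) {χ ψ : G → ℂ} {ε δ : ℂ} (hχ : ∀ g, χ (v * g) = ε * χ g)
    (hψ : ∀ g, ψ (v * g) = δ * ψ g) :
    ctr 2 (v * u) (bP 2 M a (v * u)) χ ψ = ε * conj δ * ctr 2 u (bP 2 M a u) χ ψ := by
  classical
  have hcomm : ∀ g : G, Commute (v * u) g ↔ Commute u g := by
    intro g
    constructor
    · intro h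
      have h1 : v * u * g = g * (v * u) := h
      have h2 : v * (u * g) = v * (g * u) := by
        calc v * (u * g) = v * u * g := by group
          _ = g * (v * u) := h1
          _ = (g * v) * u := by group
          _ = (v * g) * u := by rw [hvc]
          _ = v * (g * u) := by group
      exact mul_left_cancel h2
    · intro h
      exact Commute.mul_left (hvc g) h
  have hcen : Subgroup.centralizer ({v * u} : Set G) = Subgroup.centralizer ({u} : Set G) := by
    ext g
    rw [Subgroup.mem_centralizer_singleton_iff, Subgroup.mem_centralizer_singleton_iff]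
    constructor
    · intro h
      exact (((hcomm g).1 (show Commute (v * u) g from h.symm)).eq).symm
    · intro h
      exact (((hcomm g).2 (show Commute u g from h.symm)).eq).symm
  have hE := cfE_bP_congr hM hmax hab (a.1.mul_mem hv hu) hu hcen
  have hchi : ∀ g, chiE (bP 2 M a (v * u)) χ (v * g) = ε * chiE (bP 2 M a u) χ g := by
    intro g
    rw [chiE_eq_sum, chiE_eq_sum, hE, Finset.mul_sum]
    refine Finset.sum_congr rfl fun k _ => ?_
    have h1 : k * (v * g) = v * (k * g) := by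
      rw [← mul_assoc, ← hvc k, mul_assoc]
    rw [h1, hχ]
    ring
  rw [ctr_def, ctr_def, hcen, mul_left_comm]
  congr 1
  rw [Finset.mul_sum]
  refine Finset.sum_congr ?_ fun s _ => ?_
  · ext s
    simp only [Finset.mem_filter, hcomm]
  · rw [mul_assoc, hchi, hψ, map_mul]
    ring

theorem star_ind_one_apply {χ : IrrCharacter G} (hχ : χ ∈ B) {η : G → ℂ}
    (hη : IsStable 2 M a η) (h1 : η 1 = 1) (h0 : ∀ g, g ≠ 1 → η g = 0) (g : G) :
    H651.star 2 M a η (χ : G → ℂ) g = if 2 ∣ orderOf g then 0 else (χ : G → ℂ) g := by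
  classical
  split_ifs with hg
  · -- the `2`-part is nontrivial
    obtain ⟨hu, s, hs, hgs⟩ := exists_pp_mul (p := 2) g
    have hne : pp 2 g ≠ 1 := by
      intro h
      have h6 : pp 2 g * (s : G) = 1 * (s : G) := congrArg (· * (s : G)) h
      rw [one_mul, hgs] at h6
      rw [orderOf_coe_dvd, ← h6] at hs
      exact hs hg
    unfold H651.star starW
    refine finsum_mem_eq_zero_of_forall_eq_zero fun b hb => ?_
    have h2 : etaW 2 M a η (pp 2 g) b = 0 := by
      by_cases h : ∃ x, LEIdx 2 M (conjIdx x b) a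
      · obtain ⟨x, hx⟩ := h
        rw [etaW_eq hη hb.1 hx]
        apply h0
        intro h3
        apply hne
        have h4 : pp 2 g = x⁻¹ * (x * pp 2 g * x⁻¹) * x := by group
        rw [h4, h3]
        group
      · exact etaW_eq_zero h
    rw [h2, zero_mul]
  · rw [star_apply_reg hM hmax hη hχ hg, h1, one_mul]

/-- The contribution of the identity. -/
theorem ctr_one {χ : IrrCharacter G} (hχ : χ ∈ B) (ψ : IrrCharacter G) :
    ctr 2 1 (bP 2 M a 1) (χ : G → ℂ) (ψ : G → ℂ) = rg 2 (χ : G → ℂ) (ψ : G → ℂ) := by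
  classical
  have := Fintype.ofFinite a.1
  set η : G → ℂ := fun g => if g = 1 then 1 else 0 with hηdef
  have hη : IsStable 2 M a η := by
    intro u x b _ _ _ _
    have h1 : x * u * x⁻¹ = 1 ↔ u = 1 := by
      constructor
      · intro h
        have h4 : u = x⁻¹ * (x * u * x⁻¹) * x := by group
        rw [h4, h]
        group
      · rintro rfl
        group
    simp only [hηdef, h1]
  have h1 := Cfsg.Agent.H645.FusCount.classInner_star hM hmax.1.1 (ctrl_of_abelian hM hmax hab) hη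
    (Core.isIrr_isClassFunction χ.2) (Core.isIrr_isClassFunction ψ.2)
  have hη1 : η 1 = 1 := if_pos rfl
  have hη0 : ∀ g, g ≠ 1 → η g = 0 := fun g hg => if_neg hg
  rw [Finset.sum_eq_single (1 : a.1)] at h1
  · have h2 : (stab a ⊓ Subgroup.centralizer ({((1 : a.1) : G)} : Set G) : Subgroup G) = stab a := by
      refine inf_eq_left.2 fun t _ => ?_
      rw [Subgroup.mem_centralizer_singleton_iff]
      simp
    rw [h2] at h1
    rw [OneMemClass.coe_one, hη1, one_mul, ← mul_assoc,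
      inv_mul_cancel₀ (by exact_mod_cast Nat.card_pos.ne'), one_mul] at h1
    rw [← h1, Core.classInner_def, rg_def, pair_eq_sum_filter]
    congr 1
    rw [Finset.sum_filter]
    refine Finset.sum_congr rfl fun g _ => ?_
    rw [star_ind_one_apply hM hmax hab hχ hη hη1 hη0 g]
    by_cases hg : 2 ∣ orderOf g
    · rw [if_pos hg, if_neg (not_not.2 hg), zero_mul]
    · rw [if_neg hg, if_pos hg]
  · intro w _ hw
    rw [hη0 _ (fun h => hw (Subtype.ext h)), zero_mul]
  · intro h
    exact absurd (Finset.mem_univ _) h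

end central

end Cfsg.Agent.H617.StarCols
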