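import Mathlib
import Cfsg.Agent.H617.StarCols

/-!
# The automorphisms induced by the stabilizer of a maximal pair with abelian `P`
-/

set_option autoImplicit false
set_option linter.unusedSectionVars false

open Cfsg
open scoped ComplexConjugate

namespace Cfsg.Agent.H617.StarAut

open Cfsg.Agent.H651 Cfsg.Agent.H649 Cfsg.Agent.Characters
open Cfsg.Agent.H652.DoubleCount Cfsg.Agent.H645.FusCount Cfsg.Agent.H650
open Cfsg.Agent.H645.TraceForm Cfsg.Agent.H645.LocMono Cfsg.Agent.H645.Watanabe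
open Cfsg.Agent.H652.Ctr Cfsg.Agent.H652.CtrOne Cfsg.Agent.H613.RegGram
open Cfsg.Agent.H613.Contrib Cfsg.Agent.H613.ContribVal
open Cfsg.Agent.H617.AbelRank Cfsg.Agent.H617.RankOneCol Cfsg.Agent.H617.StarCols

universe u

variable {G : Type u} [Group G]

/-- The group of automorphisms of `P` induced by the stabilizer of `a`. -/
noncomputable def autG [Finite G] (a : BrauerPairIdx G) : Subgroup (MulAut a.1) :=
  ((stab a).subgroupOf (Subgroup.normalizer (a.1 : Set G))).map
    (Subgroup.normalizerMonoidHom a.1)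

variable [Fintype G] {M : Ideal AlgInt} [M.IsPrime]

section

variable {p : ℕ} [Fact p.Prime] (hM : IsPModular p M) {B : Set (IrrCharacter G)}
  {a : BrauerPairIdx G}
  (hmax : IsMaximalBrauerPair p M B a.1 a.2) (hab : ∀ x ∈ a.1, ∀ y ∈ a.1, x * y = y * x)

include hM hmax hab

theorem card_autG :
    Nat.card (autG a) = (Subgroup.centralizer (a.1 : Set G)).relIndex (stab a) := by
  have hN := stab_le_normalizer hM hmax hab
  rw [autG, ← Subgroup.relIndex_ker, Subgroup.normalizerMonoidHom_ker,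
    Subgroup.relIndex_subgroupOf hN]

theorem not_dvd_card_autG : ¬ p ∣ Nat.card (autG a) := by
  rw [card_autG hM hmax hab]
  exact not_dvd_relIndex_stab hM hmax hab

theorem mem_autG {α : MulAut a.1} :
    α ∈ autG a ↔ ∃ t ∈ stab a, ∀ x : a.1, ((α x : a.1) : G) = t * x * t⁻¹ := by
  have hN := stab_le_normalizer hM hmax hab
  constructor
  · rintro ⟨t, ht, rfl⟩
    exact ⟨t, Subgroup.mem_subgroupOf.1 ht, fun x => rfl⟩
  · rintro ⟨t, ht, h⟩
    refine ⟨⟨t, hN ht⟩, Subgroup.mem_subgroupOf.2 ht, ?_⟩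
    ext x
    rw [h x]
    rfl

theorem exists_autG {t : G} (ht : t ∈ stab a) :
    ∃ α ∈ autG a, ∀ x : a.1, ((α x : a.1) : G) = t * x * t⁻¹ := by
  have hN := stab_le_normalizer hM hmax hab
  exact ⟨Subgroup.normalizerMonoidHom a.1 ⟨t, hN ht⟩,
    ⟨⟨t, hN ht⟩, Subgroup.mem_subgroupOf.2 ht, rfl⟩, fun x => rfl⟩

/-- The stabilizers. -/
theorem relIndex_inf {v : G} (hv : v ∈ a.1) (S : Subgroup (MulAut a.1))
    (hS : ∀ α, α ∈ S ↔ α ∈ autG a ∧ α ⟨v, hv⟩ = ⟨v, hv⟩) :
    (Subgroup.centralizer (a.1 : Set G)).relIndex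
      (stab a ⊓ Subgroup.centralizer ({v} : Set G)) = Nat.card S := by
  have hN := stab_le_normalizer hM hmax hab
  have h1 : S = ((stab a ⊓ Subgroup.centralizer ({v} : Set G)).subgroupOf
      (Subgroup.normalizer (a.1 : Set G))).map (Subgroup.normalizerMonoidHom a.1) := by
    ext α
    rw [hS, mem_autG hM hmax hab]
    constructor
    · rintro ⟨⟨t, ht, h⟩, hα⟩
      refine ⟨⟨t, hN ht⟩, ?_, ?_⟩
      · refine Subgroup.mem_subgroupOf.2 (Subgroup.mem_inf.2 ⟨ht, ?_⟩)
        rw [Subgroup.mem_centralizer_singleton_iff]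
        have h2 := h ⟨v, hv⟩
        rw [hα] at h2
        have h3 : v = t * v * t⁻¹ := h2
        calc t * v = t * v * t⁻¹ * t := by group
          _ = v * t := by rw [← h3]
      · ext x
        rw [h x]
        rfl
    · rintro ⟨t, ht, rfl⟩
      have ht' := Subgroup.mem_inf.1 (Subgroup.mem_subgroupOf.1 ht)
      refine ⟨⟨t, ht'.1, fun x => rfl⟩, ?_⟩
      apply Subtype.ext
      have h3 : (t : G) * v = v * t := Subgroup.mem_centralizer_singleton_iff.1 ht'.2
      change (t : G) * v * (t : G)⁻¹ = v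
      rw [h3]
      group
  rw [h1, ← Subgroup.relIndex_ker, Subgroup.normalizerMonoidHom_ker,
    Subgroup.relIndex_subgroupOf (inf_le_left.trans hN)]

end

section ext

variable {a : BrauerPairIdx G}

open Classical in
/-- The sum over the `τ`-orbit, extended by zero. -/
noncomputable def ext (τ : MulAut a.1) (κ : a.1 → ℂ) (g : G) : ℂ :=
  if h : g ∈ a.1 then ∑ i ∈ Finset.range 5, κ ((τ ^ i) ⟨g, h⟩) else 0

omit [Fintype G] in
theorem ext_apply (τ : MulAut a.1) (κ : a.1 → ℂ) (v : a.1) :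
    ext τ κ (v : G) = ∑ i ∈ Finset.range 5, κ ((τ ^ i) v) := by
  rw [ext, dif_pos v.2]

omit [Fintype G] in
theorem ext_succ {τ : MulAut a.1} (h5 : τ ^ 5 = 1) (κ : a.1 → ℂ) (v : a.1) :
    ext τ κ ((τ v : a.1) : G) = ext τ κ (v : G) := by
  rw [ext_apply, ext_apply]
  have h1 : ∀ i, κ ((τ ^ i) (τ v)) = κ ((τ ^ (i + 1)) v) := by
    intro i
    rw [pow_succ, MulAut.mul_apply]
  simp only [h1]
  have h2 := Finset.sum_range_succ' (fun i => κ ((τ ^ i) v)) 5
  have h3 := Finset.sum_range_succ (fun i => κ ((τ ^ i) v)) 5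
  rw [h3, h5, pow_zero] at h2
  exact (add_right_cancel h2).symm

omit [Fintype G] in
theorem ext_pow {τ : MulAut a.1} (h5 : τ ^ 5 = 1) (κ : a.1 → ℂ) (v : a.1) (n : ℕ) :
    ext τ κ (((τ ^ n) v : a.1) : G) = ext τ κ (v : G) := by
  induction n with
  | zero => rfl
  | succ n ih =>
    rw [pow_succ', MulAut.mul_apply, ext_succ h5, ih]

end ext

section five

variable (hM : IsPModular 2 M) {B : Set (IrrCharacter G)} {a : BrauerPairIdx G}
  (hmax : IsMaximalBrauerPair 2 M B a.1 a.2) (hab : ∀ x ∈ a.1, ∀ y ∈ a.1, x * y = y * x)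
  {τ : MulAut a.1} (hτ : autG a = Subgroup.zpowers τ) (h5 : τ ^ 5 = 1)

include hM hmax hab hτ h5

theorem exists_pow {t : G} (ht : t ∈ stab a) :
    ∃ n : ℕ, ∀ x : a.1, (((τ ^ n) x : a.1) : G) = t * x * t⁻¹ := by
  obtain ⟨α, hα, h⟩ := exists_autG hM hmax hab ht
  rw [hτ] at hα
  have hfin : IsOfFinOrder τ := isOfFinOrder_iff_pow_eq_one.2 ⟨5, by norm_num, h5⟩
  rw [← hfin.mem_powers_iff_mem_zpowers] at hα
  obtain ⟨n, hn⟩ := hα
  have hn' : τ ^ n = α := hn
  exact ⟨n, by rw [hn']; exact h⟩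

theorem isStable_ext (κ : a.1 → ℂ) : IsStable 2 M a (ext τ κ) := by
  intro u x b hu hb h1 h2
  obtain ⟨y, hy, hxy⟩ := (ctrl_of_abelian hM hmax hab).fus u x b hu hb h1 h2
  obtain ⟨n, hn⟩ := exists_pow hM hmax hab hτ h5 hy
  rw [hxy, ← hn ⟨u, hu⟩, ext_pow h5]

theorem fixed_iff (v : a.1) : τ v = v ↔ ∀ t ∈ stab a, t * (v : G) * t⁻¹ = v := by
  constructor
  · intro h t ht
    obtain ⟨n, hn⟩ := exists_pow hM hmax hab hτ h5 ht
    rw [← hn v]
    have : ∀ n : ℕ, (τ ^ n) v = v := by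
      intro n
      induction n with
      | zero => rfl
      | succ n ih => rw [pow_succ', MulAut.mul_apply, ih, h]
    rw [this]
  · intro h
    have h1 : τ ∈ autG a := by rw [hτ]; exact Subgroup.mem_zpowers τ
    obtain ⟨t, ht, h2⟩ := (mem_autG hM hmax hab).1 h1
    apply Subtype.ext
    rw [h2, h t ht]

theorem ctr_aut (v : a.1) {χ ψ : G → ℂ} (hχ : IsClassFunction G χ) (hψ : IsClassFunction G ψ) :
    ctr 2 ((τ v : a.1) : G) (bP 2 M a ((τ v : a.1) : G)) χ ψ =
      ctr 2 (v : G) (bP 2 M a (v : G)) χ ψ := by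
  have h1 : τ ∈ autG a := by rw [hτ]; exact Subgroup.mem_zpowers τ
  obtain ⟨t, ht, h2⟩ := (mem_autG hM hmax hab).1 h1
  rw [h2, Cfsg.Agent.H645.FusCount.bP_conj hM hmax.1.1 (ctrl_of_abelian hM hmax hab) v.2 ht,
    ctr_conj 2 t (v : G) _ hχ hψ]

variable (hidx : (Subgroup.centralizer (a.1 : Set G)).relIndex (stab a) = 5)

include hidx

/-- The inner product of `star η χ` with `ψ`, for `η` the sum of `κ` over the orbits. -/
theorem classInner_ext [Fintype a.1] [DecidableEq a.1] (κ : a.1 → ℂ) {χ ψ : G → ℂ}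
    (hχ : IsClassFunction G χ) (hψ : IsClassFunction G ψ) :
    classInner (H651.star 2 M a (ext τ κ) χ) ψ =
      ∑ v : a.1, κ v * ((if τ v = v then (5 : ℂ) else 1) *
        ctr 2 (v : G) (bP 2 M a (v : G)) χ ψ) := by
  classical
  rw [Cfsg.Agent.H645.FusCount.classInner_star hM hmax.1.1 (ctrl_of_abelian hM hmax hab)
    (isStable_ext hM hmax hab hτ h5 κ) hχ hψ]
  set C := Subgroup.centralizer (a.1 : Set G) with hC
  have hCS : C ≤ stab a := centralizer_le_stab hM hmax hab
  have hcard : Nat.card (stab a) = 5 * Nat.card C := by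
    have h1 := Subgroup.card_mul_index (C.subgroupOf (stab a))
    rw [Nat.card_congr (Subgroup.subgroupOfEquivOfLe hCS).toEquiv] at h1
    change Nat.card C * C.relIndex (stab a) = Nat.card (stab a) at h1
    rw [hidx] at h1
    rw [← h1, mul_comm]
  have hC0 : (Nat.card C : ℂ) ≠ 0 := by exact_mod_cast Nat.card_pos.ne'
  have hm : ∀ v : a.1, (Nat.card (stab a ⊓ Subgroup.centralizer ({(v : G)} : Set G) :
      Subgroup G) : ℂ) = Nat.card C * (if τ v = v then (5 : ℂ) else 1) := by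
    intro v
    split_ifs with h
    · have h1 : stab a ⊓ Subgroup.centralizer ({(v : G)} : Set G) = stab a := by
        refine inf_eq_left.2 fun t ht => ?_
        rw [Subgroup.mem_centralizer_singleton_iff]
        have h2 := (fixed_iff hM hmax hab hτ h5 v).1 h t ht
        calc t * (v : G) = t * v * t⁻¹ * t := by group
          _ = v * t := by rw [h2]
      rw [h1, hcard]
      push_cast
      ring
    · have h1 := inf_eq_of_prime hM hmax hab (by norm_num : Nat.Prime 5) hidx v.2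
        (fun h2 => h ((fixed_iff hM hmax hab hτ h5 v).2 h2))
      rw [← h1, mul_one]
  -- the invariant function
  set f : a.1 → ℂ := fun v => (if τ v = v then (5 : ℂ) else 1) *
    ctr 2 (v : G) (bP 2 M a (v : G)) χ ψ with hf
  have hfτ : ∀ v, f (τ v) = f v := by
    intro v
    simp only [hf]
    rw [ctr_aut hM hmax hab hτ h5 v hχ hψ]
    congr 1
    by_cases h : τ v = v
    · rw [if_pos h, if_pos (congrArg τ h)]
    · rw [if_neg h, if_neg fun h1 => h (τ.injective h1)]
  have hfpow : ∀ (n : ℕ) (v : a.1), f ((τ ^ n) v) = f v := by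
    intro n
    induction n with
    | zero => intro v; rfl
    | succ n ih =>
      intro v
      rw [pow_succ', MulAut.mul_apply, hfτ, ih]
  have h1 : ∀ v : a.1, ext τ κ (v : G) * ((Nat.card (stab a ⊓ Subgroup.centralizer
      ({(v : G)} : Set G) : Subgroup G) : ℂ) * ctr 2 (v : G) (bP 2 M a (v : G)) χ ψ) =
      Nat.card C * ∑ i ∈ Finset.range 5, κ ((τ ^ i) v) * f ((τ ^ i) v) := by
    intro v
    rw [ext_apply, hm, Finset.sum_mul, Finset.mul_sum]
    refine Finset.sum_congr rfl fun i _ => ?_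
    rw [hfpow]
    simp only [hf]
    ring
  rw [Finset.sum_congr rfl fun v _ => h1 v, ← Finset.mul_sum, Finset.sum_comm]
  have h2 : ∀ i ∈ Finset.range 5, ∑ v : a.1, κ ((τ ^ i) v) * f ((τ ^ i) v) =
      ∑ v : a.1, κ v * f v := fun i _ =>
    Fintype.sum_equiv ((τ ^ i : MulAut a.1).toEquiv) _ _ fun v => rfl
  rw [Finset.sum_congr rfl h2, Finset.sum_const, Finset.card_range, hcard, nsmul_eq_mul]
  change _ = ∑ v : a.1, κ v * f v
  push_cast
  field_simp

/-- Orthonormality. -/
theorem tot [Fintype a.1] [DecidableEq a.1] {χ ψ : IrrCharacter G} (hχ : χ ∈ B)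
    [Decidable (χ = ψ)] :
    (if χ = ψ then (5 : ℂ) else 0) = ∑ v : a.1, (if τ v = v then (5 : ℂ) else 1) *
        ctr 2 (v : G) (bP 2 M a (v : G)) (χ : G → ℂ) (ψ : G → ℂ) := by
  have h1 := classInner_ext hM hmax hab hτ h5 hidx (fun _ => (5 : ℂ)⁻¹)
    (Core.isIrr_isClassFunction χ.2) (Core.isIrr_isClassFunction ψ.2)
  have h2 : H651.star 2 M a (ext τ fun _ => (5 : ℂ)⁻¹) (χ : G → ℂ) = (χ : G → ℂ) := by
    rw [star_congr hM hmax (isStable_ext hM hmax hab hτ h5 _) (isStable_const 1) ?_ hχ,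
      star_one hM hmax hχ]
    intro g hg
    have h3 := ext_apply τ (fun _ => (5 : ℂ)⁻¹) ⟨g, hg⟩
    rw [Finset.sum_const, Finset.card_range, nsmul_eq_mul] at h3
    rw [h3]
    norm_num
  rw [h2, ← Finset.mul_sum] at h1
  have h4 : classInner (χ : G → ℂ) (ψ : G → ℂ) = if χ = ψ then 1 else 0 := by
    split_ifs with h
    · rw [h]
      exact Core.classInner_irr_self ψ.2
    · exact Core.classInner_irr_ne χ.2 ψ.2 fun h' => h (Subtype.ext h')
  rw [h4] at h1
  have h6 : ∑ v : a.1, (if τ v = v then (5 : ℂ) else 1) *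
        ctr 2 (v : G) (bP 2 M a (v : G)) (χ : G → ℂ) (ψ : G → ℂ) =
      5 * (if χ = ψ then (1 : ℂ) else 0) := by
    rw [h1, ← mul_assoc]
    norm_num
  rw [h6]
  split_ifs <;> norm_num

/-- Integrality. -/
theorem int_ann [Fintype a.1] [DecidableEq a.1] (K : Subgroup a.1) [DecidablePred (· ∈ K)]
    (χ ψ : IrrCharacter G) :
    ∃ n : ℤ, ∑ v : a.1, (if v ∈ K then (K.index : ℂ) else 0) *
      ((if τ v = v then (5 : ℂ) else 1) *
        ctr 2 (v : G) (bP 2 M a (v : G)) (χ : G → ℂ) (ψ : G → ℂ)) = n := by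
  classical
  have hab' : ∀ x y : a.1, x * y = y * x := fun x y => Subtype.ext (hab x x.2 y y.2)
  have hcomm : ∀ x y : a.1, x⁻¹ * (y * x * y⁻¹) ∈ K := by
    intro x y
    rw [hab' y x, mul_assoc, mul_inv_cancel, mul_one, inv_mul_cancel]
    exact K.one_mem
  have hfin : Finite (ann K) := by
    have hc : Nat.card (ann K) ≠ 0 := by
      rw [card_ann hcomm]
      exact K.index_ne_zero_of_finite
    exact (Nat.card_ne_zero.1 hc).2
  have := Fintype.ofFinite (ann K)
  set κ : a.1 → ℂ := fun v => if v ∈ K then (K.index : ℂ) else 0 with hκ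
  have hκ' : ∀ v, κ v = ∑ l : ann K, (((l : a.1 →* ℂˣ) v : ℂˣ) : ℂ) := by
    intro v
    rw [Cfsg.Agent.H645.FourierKer.sum_ann_apply hab' K v, ← Nat.card_eq_fintype_card,
      card_ann hcomm]
  have hgen : IsGeneralizedCharacter a.1 (fun x => ext τ κ (x : G)) := by
    have h1 : (fun x : a.1 => ext τ κ (x : G)) = ∑ i ∈ Finset.range 5, ∑ l : ann K,
        fun x : a.1 => (((l : a.1 →* ℂˣ).comp (τ ^ i).toMonoidHom x : ℂˣ) : ℂ) := by
      funext x
      rw [ext_apply, Finset.sum_apply]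
      refine Finset.sum_congr rfl fun i _ => ?_
      rw [Finset.sum_apply, hκ']
      rfl
    rw [h1]
    refine Finset.sum_induction _ _ (fun _ _ => Brauer.isGeneralizedCharacter_add)
      Brauer.isGeneralizedCharacter_zero fun i _ => ?_
    refine Finset.sum_induction _ _ (fun _ _ => Brauer.isGeneralizedCharacter_add)
      Brauer.isGeneralizedCharacter_zero fun l _ => ?_
    exact Brauer.isGeneralizedCharacter_of_isCharacter
      (CharDeep.LinearChar.isCharacter_of_hom _)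
  have h2 := star_isGeneralizedCharacter hM hmax hgen (isStable_ext hM hmax hab hτ h5 κ)
    (Core.isIrr_isCharacter χ.2)
  obtain ⟨n, hn⟩ := classInner_isInt h2 (Core.isIrr_isCharacter ψ.2)
  refine ⟨n, ?_⟩
  rw [← hn, classInner_ext hM hmax hab hτ h5 hidx κ (Core.isIrr_isClassFunction χ.2)
    (Core.isIrr_isClassFunction ψ.2)]

omit [Fintype G] [M.IsPrime] hM hmax hab hτ hidx in
theorem pow_mod (n : ℕ) (v : a.1) : (τ ^ n) v = (τ ^ (n % 5)) v := by
  conv_lhs => rw [← Nat.div_add_mod n 5, pow_add, pow_mul, h5, one_pow, one_mul]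

theorem classInner_single [Fintype a.1] [DecidableEq a.1] {u : a.1} (hu : τ u ≠ u) {χ ψ : G → ℂ}
    (hχ : IsClassFunction G χ) (hψ : IsClassFunction G ψ) :
    classInner (H651.star 2 M a (ext τ (Pi.single u 1)) χ) ψ =
      ctr 2 (u : G) (bP 2 M a (u : G)) χ ψ := by
  rw [classInner_ext hM hmax hab hτ h5 hidx _ hχ hψ, Finset.sum_eq_single u]
  · rw [Pi.single_eq_same, if_neg hu]
    ring
  · intro v _ hv
    rw [Pi.single_eq_of_ne hv, zero_mul]
  · intro h
    exact absurd (Finset.mem_univ _) h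

/-- Orthogonality. -/
theorem orth_ctr [Fintype B] {u u' : a.1} (hu : τ u ≠ u) (hu' : τ u' ≠ u')
    (hne : ∀ i < 5, (τ ^ i) u ≠ u') {χ χ' : IrrCharacter G} (hχ : χ ∈ B) (hχ' : χ' ∈ B) :
    ∑ ψ : B, ctr 2 (u : G) (bP 2 M a (u : G)) (χ : G → ℂ) (ψ : G → ℂ) *
      conj (ctr 2 (u' : G) (bP 2 M a (u' : G)) (χ' : G → ℂ) (ψ : G → ℂ)) = 0 := by
  classical
  have := Fintype.ofFinite a.1
  have := Core.finite_irr (G := G)
  have := Fintype.ofFinite (IrrCharacter G)
  have hs := isStable_ext hM hmax hab hτ h5 (Pi.single u 1)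
  have hs' := isStable_ext hM hmax hab hτ h5 (Pi.single u' 1)
  have hcχ := Core.isIrr_isClassFunction χ.2
  have hcχ' := Core.isIrr_isClassFunction χ'.2
  have h1 := Core.classInner_eq_sum (isClassFunction_star hs hcχ) (isClassFunction_star hs' hcχ')
  rw [sum_eq_sum_coe B] at h1
  · rw [classInner_star_star hM hs hs' hcχ hcχ'] at h1
    have h2 : H651.star 2 M a (fun g => ext τ (Pi.single u 1) g *
        conj (ext τ (Pi.single u' 1) g)) (χ : G → ℂ) = 0 := by
      rw [star_congr hM hmax (isStable_mul hs (isStable_conj hs')) (isStable_const 0) ?_ hχ,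
        star_const hM hmax 0 hχ, zero_smul]
      intro g hg
      have e1 := ext_apply τ (Pi.single u 1) ⟨g, hg⟩
      have e2 := ext_apply τ (Pi.single u' 1) ⟨g, hg⟩
      change ext τ (Pi.single u 1) g = _ at e1
      change ext τ (Pi.single u' 1) g = _ at e2
      by_cases h3 : ∃ i ∈ Finset.range 5, (τ ^ i) ⟨g, hg⟩ = u
      · obtain ⟨i, hi, h3⟩ := h3
        rw [e2, Finset.sum_eq_zero, map_zero, mul_zero]
        intro j hj
        rw [Finset.mem_range] at hi hj
        refine Pi.single_eq_of_ne ?_ _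
        intro h4
        apply hne ((j + (5 - i)) % 5) (Nat.mod_lt _ (by norm_num))
        rw [← pow_mod h5, pow_add, MulAut.mul_apply, ← h4, ← h3]
        congr 1
        rw [← MulAut.mul_apply, ← pow_add, Nat.sub_add_cancel hi.le, h5]
        rfl
      · push Not at h3
        rw [e1, Finset.sum_eq_zero, zero_mul]
        intro j hj
        exact Pi.single_eq_of_ne (h3 j hj) _
    rw [h2, Core.classInner_zero_left] at h1
    rw [h1]
    refine Finset.sum_congr rfl fun ψ _ => ?_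
    rw [classInner_single hM hmax hab hτ h5 hidx hu hcχ (Core.isIrr_isClassFunction ψ.1.2),
      classInner_single hM hmax hab hτ h5 hidx hu' hcχ' (Core.isIrr_isClassFunction ψ.1.2)]
  · intro ζ hζ
    rw [classInner_star_of_notMem hM hmax.1.2.1 hχ hζ, zero_mul]

end five

end Cfsg.Agent.H617.StarAut
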