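import Mathlib

/-!
# Arithmetic core for an inertial quotient of order five

`D` elementary abelian of order `32`, `τ` an automorphism of order `5` with fixed points `{1, v}`.
`w u : X → ℤ` (`u ∉ {1, v}`) are the columns, `r` the normalised contribution of the identity.
-/

set_option autoImplicit false
set_option linter.unusedSectionVars false

namespace Cfsg.Agent.H617.FiveCore

section group

variable {D : Type*} [Group D] [Finite D] (hel : ∀ x : D, x * x = 1) (hcard : Nat.card D = 32)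
  {τ : MulAut D} (h5 : τ ^ 5 = 1) {v : D} (hv1 : v ≠ 1) (hτv : τ v = v)
  (hfix : ∀ x, τ x = x → x = 1 ∨ x = v)

include hel

omit [Finite D] in
theorem comm (x y : D) : x * y = y * x := by
  have h1 := hel (x * y)
  have h2 : (x * y) * (y * x) = 1 := by
    calc (x * y) * (y * x) = x * (y * y) * x := by group
      _ = 1 := by rw [hel y, mul_one, hel x]
  exact mul_left_cancel (h1.trans h2.symm)

include h5 hv1 hτv hfix in
omit [Finite D] hel hv1 hτv in
theorem fix_sq {x : D} (h : τ (τ x) = x) : x = 1 ∨ x = v := by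
  apply hfix
  have h6 : ∀ y, τ (τ (τ (τ (τ y)))) = y := by
    intro y
    have : (τ ^ 5) y = y := by rw [h5]; rfl
    simpa [pow_succ, MulAut.mul_apply] using this
  have h7 := h6 x
  rw [h, h] at h7
  exact h7

include hcard h5 hv1 hτv hfix in
theorem exists_eq (y : D) : ∃ x, y = x * τ x ∨ y = v * (x * τ x) := by
  classical
  have hc := comm hel
  let φ : D →* D := MonoidHom.mk' (fun x => x * τ x) (fun a b => by
    rw [map_mul]
    calc a * b * (τ a * τ b) = a * (b * τ a) * τ b := by group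
      _ = a * (τ a * b) * τ b := by rw [hc b]
      _ = _ := by group)
  have hφ : ∀ x, φ x = x * τ x := fun _ => rfl
  have hker : φ.ker = Subgroup.zpowers v := by
    ext x
    rw [MonoidHom.mem_ker, hφ]
    constructor
    · intro h
      have h1 : τ x = x := by
        have h2 : x * τ x = x * x := by rw [h, hel]
        exact mul_left_cancel h2
      rcases hfix x h1 with rfl | rfl
      · exact Subgroup.one_mem _
      · exact Subgroup.mem_zpowers _
    · rintro ⟨n, rfl⟩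
      change v ^ n * τ (v ^ n) = 1
      rw [map_zpow, hτv]
      exact hel _
  have hov : orderOf v = 2 := by
    rw [orderOf_eq_prime_iff]
    exact ⟨by rw [pow_two, hel], hv1⟩
  have hkc : Nat.card φ.ker = 2 := by rw [hker, Nat.card_zpowers, hov]
  have hrange : Nat.card φ.range = 16 := by
    have h1 := Subgroup.card_mul_index φ.ker
    rw [Subgroup.index_ker, hkc, hcard] at h1
    omega
  have hidx : φ.range.index = 2 := by
    have h1 := Subgroup.card_mul_index φ.range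
    rw [hrange, hcard] at h1
    omega
  have hvr : v ∉ φ.range := by
    rintro ⟨x, hx⟩
    rw [hφ] at hx
    have h1 : τ x * τ (τ x) = v := by rw [← map_mul, hx, hτv]
    have h2 : τ (τ x) = x := by
      have h3 : τ x * τ (τ x) = τ x * x := by rw [h1, ← hx, hc]
      exact mul_left_cancel h3
    rcases fix_sq h5 hfix h2 with rfl | rfl
    · apply hv1
      rw [← hx, map_one, one_mul]
    · rw [hτv, hel] at hx
      exact hv1 hx.symm
  by_cases hy : y ∈ φ.range
  · obtain ⟨x, hx⟩ := hy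
    exact ⟨x, Or.inl hx.symm⟩
  · have h1 : v⁻¹ * y ∈ φ.range := by
      have := Subgroup.mul_mem_iff_of_index_two hidx (a := v⁻¹) (b := y)
      rw [this]
      constructor
      · intro h
        exact absurd (inv_mem_iff.1 h) hvr
      · intro h
        exact absurd h hy
    obtain ⟨x, hx⟩ := h1
    refine ⟨x, Or.inr ?_⟩
    rw [← hφ, hx]
    group

end group

section arith

variable {D : Type*} [Group D] [Fintype D] [DecidableEq D] {X : Type*} [Fintype X]
  [DecidableEq X]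

/-- The data. -/
structure Hyp (τ : MulAut D) (v : D) (w : D → X → ℤ) (r : X → X → ℤ) : Prop where
  hel : ∀ x : D, x * x = 1
  hcard : Nat.card D = 32
  h5 : τ ^ 5 = 1
  hv1 : v ≠ 1
  hτv : τ v = v
  hfix : ∀ x, τ x = x → x = 1 ∨ x = v
  wτ : ∀ u χ ψ, u ≠ 1 → u ≠ v → w (τ u) χ * w (τ u) ψ = w u χ * w u ψ
  wv : ∀ u χ ψ, u ≠ 1 → u ≠ v → w (v * u) χ * w (v * u) ψ = w u χ * w u ψ
  line : ∀ x y χ ψ, x ≠ 1 → x ≠ v → y ≠ 1 → y ≠ v → x * y ≠ 1 → x * y ≠ v →
    (4 : ℤ) ∣ 5 * r χ ψ + (w x χ * w x ψ + w y χ * w y ψ + w (x * y) χ * w (x * y) ψ)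
  tot : ∀ χ ψ, (if χ = ψ then (160 : ℤ) else 0) = 10 * r χ ψ +
    ∑ u ∈ Finset.univ.filter (fun u : D => u ≠ 1 ∧ u ≠ v), w u χ * w u ψ
  norm : ∀ u, u ≠ 1 → u ≠ v → ∑ χ, w u χ * w u χ = 16
  orth : ∀ u u', u ≠ 1 → u ≠ v → u' ≠ 1 → u' ≠ v →
    (∀ i < 5, (τ ^ i) u ≠ u' ∧ v * (τ ^ i) u ≠ u') → ∑ χ, w u χ * w u' χ = 0
  nz : ∀ u χ, u ≠ 1 → u ≠ v → w u χ ≠ 0

variable {τ : MulAut D} {v : D} {w : D → X → ℤ} {r : X → X → ℤ} (h : Hyp τ v w r)

include h

theorem Hyp.exists_line {y : D} (hy1 : y ≠ 1) (hyv : y ≠ v) (χ ψ : X) :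
    ∃ x, x ≠ 1 ∧ x ≠ v ∧ (4 : ℤ) ∣ 5 * r χ ψ + 2 * (w x χ * w x ψ) + w y χ * w y ψ := by
  obtain ⟨x, hx⟩ := exists_eq h.hel h.hcard h.h5 h.hv1 h.hτv h.hfix y
  have hvv : v * v = 1 := h.hel v
  have hx1 : x ≠ 1 := by
    rintro rfl
    rw [map_one, one_mul, mul_one] at hx
    exact hx.elim hy1 hyv
  have hxv : x ≠ v := by
    rintro rfl
    rw [h.hτv, hvv, mul_one] at hx
    exact hx.elim hy1 hyv
  have ht1 : τ x ≠ 1 := fun h1 => hx1 (by rw [← map_one τ] at h1; exact τ.injective h1)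
  have htv : τ x ≠ v := fun h1 => hxv (τ.injective (by rw [h1, h.hτv]))
  have e1 : x * τ x ≠ 1 := by
    intro h1
    rw [h1, mul_one] at hx
    exact hx.elim hy1 hyv
  have e2 : x * τ x ≠ v := by
    intro h1
    rw [h1, hvv] at hx
    exact hx.elim hyv hy1
  have h1 := h.line x (τ x) χ ψ hx1 hxv ht1 htv e1 e2
  have h2 := h.wτ x χ ψ hx1 hxv
  have h3 : w (x * τ x) χ * w (x * τ x) ψ = w y χ * w y ψ := by
    rcases hx with rfl | rfl
    · rfl
    · exact (h.wv _ χ ψ e1 e2).symm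
  refine ⟨x, hx1, hxv, ?_⟩
  rw [h2, h3] at h1
  have h4 : 5 * r χ ψ + 2 * (w x χ * w x ψ) + w y χ * w y ψ =
    5 * r χ ψ + (w x χ * w x ψ + w x χ * w x ψ + w y χ * w y ψ) := by ring
  rw [h4]
  exact h1

theorem Hyp.mod4 {y : D} (hy1 : y ≠ 1) (hyv : y ≠ v) (χ ψ : X) :
    (4 : ℤ) ∣ w y χ * w y ψ - r χ ψ := by
  obtain ⟨x, hx1, hxv, h1⟩ := h.exists_line hy1 hyv χ ψ
  obtain ⟨x', -, -, h2⟩ := h.exists_line hx1 hxv χ ψ
  omega

theorem Hyp.card_filter :
    (Finset.univ.filter (fun u : D => u ≠ 1 ∧ u ≠ v)).card = 30 := by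
  have h1 : Finset.univ.filter (fun u : D => u ≠ 1 ∧ u ≠ v) = Finset.univ \ {1, v} := by
    ext u
    simp
  rw [h1, Finset.card_sdiff_of_subset (Finset.subset_univ _), Finset.card_univ,
    ← Nat.card_eq_fintype_card, h.hcard, Finset.card_pair h.hv1.symm]

theorem Hyp.form_mod (z : X → ℤ) (hodd : Odd (∑ χ, ∑ ψ, z χ * z ψ * r χ ψ)) :
    (∑ χ, ∑ ψ, z χ * z ψ * r χ ψ) % 8 = 5 := by
  set Q := ∑ χ, ∑ ψ, z χ * z ψ * r χ ψ with hQ
  set F := Finset.univ.filter (fun u : D => u ≠ 1 ∧ u ≠ v) with hF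
  have hmemF : ∀ u, u ∈ F ↔ u ≠ 1 ∧ u ≠ v := fun u => by simp [hF]
  let W : D → ℤ := fun u => ∑ χ, z χ * w u χ
  have hW2 : ∀ u, W u * W u = ∑ χ, ∑ ψ, z χ * z ψ * (w u χ * w u ψ) := by
    intro u
    change (∑ χ, z χ * w u χ) * (∑ χ, z χ * w u χ) = _
    rw [Finset.sum_mul_sum]
    refine Finset.sum_congr rfl fun χ _ => Finset.sum_congr rfl fun ψ _ => ?_
    ring
  have hvW : ∀ u ∈ F, W (v * u) * W (v * u) = W u * W u := by
    intro u hu
    rw [hW2, hW2]
    refine Finset.sum_congr rfl fun χ _ => Finset.sum_congr rfl fun ψ _ => ?_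
    rw [h.wv u χ ψ ((hmemF u).1 hu).1 ((hmemF u).1 hu).2]
  have hWodd : ∀ u ∈ F, ∃ m : ℤ, W u * W u = 8 * m + 1 := by
    intro u hu
    have h1 : (4 : ℤ) ∣ W u * W u - Q := by
      rw [hW2, hQ, ← Finset.sum_sub_distrib]
      refine Finset.dvd_sum fun χ _ => ?_
      rw [← Finset.sum_sub_distrib]
      refine Finset.dvd_sum fun ψ _ => ?_
      have h2 := h.mod4 ((hmemF u).1 hu).1 ((hmemF u).1 hu).2 χ ψ
      have h3 : z χ * z ψ * (w u χ * w u ψ) - z χ * z ψ * r χ ψ =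
        z χ * z ψ * (w u χ * w u ψ - r χ ψ) := by ring
      rw [h3]
      exact h2.mul_left _
    have h2 : Odd (W u) := by
      by_contra hno
      rw [Int.not_odd_iff_even] at hno
      obtain ⟨k, hk⟩ := hno
      obtain ⟨q, hq⟩ := hodd
      rw [hk, hq] at h1
      obtain ⟨c, hc⟩ := h1
      have h3 : (k + k) * (k + k) = 4 * (k * k) := by ring
      omega
    obtain ⟨k, hk⟩ := h2
    obtain ⟨j, hj⟩ := Int.even_mul_succ_self k
    refine ⟨j, ?_⟩
    rw [hk]
    have h3 : (2 * k + 1) * (2 * k + 1) = 4 * (k * (k + 1)) + 1 := by ring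
    rw [h3, hj]
    ring
  have hch : ∀ u : D, ∃ m : ℤ, u ∈ F → W u * W u = 8 * m + 1 := by
    intro u
    by_cases hu : u ∈ F
    · obtain ⟨m, hm⟩ := hWodd u hu
      exact ⟨m, fun _ => hm⟩
    · exact ⟨0, fun h => absurd h hu⟩
  choose m hm using hch
  have hvF : ∀ u ∈ F, v * u ∈ F := by
    intro u hu
    obtain ⟨h1, h2⟩ := (hmemF u).1 hu
    refine (hmemF _).2 ⟨fun h3 => h2 ?_, fun h3 => h1 ?_⟩
    · calc u = (v * v) * u := by rw [h.hel, one_mul]
        _ = v * (v * u) := by group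
        _ = v := by rw [h3, mul_one]
    · exact mul_left_cancel (a := v) (by rw [h3, mul_one])
  have hmv : ∀ u ∈ F, m (v * u) = m u := by
    intro u hu
    have h1 := hm _ (hvF u hu)
    have h2 := hm _ hu
    rw [hvW u hu] at h1
    omega
  have heven : (2 : ℤ) ∣ ∑ u ∈ F, m u := by
    refine (ZMod.intCast_zmod_eq_zero_iff_dvd _ 2).1 ?_
    push_cast
    refine Finset.sum_involution (fun u _ => v * u) ?_ ?_ ?_ ?_
    · intro u hu
      rw [hmv u hu]
      generalize (m u : ZMod 2) = t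
      revert t
      decide
    · intro u hu _ h1
      exact h.hv1 (mul_right_cancel (b := u) (by rw [h1, one_mul]))
    · intro u hu
      exact hvF u hu
    · intro u hu
      rw [← mul_assoc, h.hel, one_mul]
  have htot : 160 * ∑ χ, z χ * z χ = 10 * Q + ∑ u ∈ F, W u * W u := by
    have h1 : 160 * ∑ χ, z χ * z χ =
        ∑ χ, ∑ ψ, z χ * z ψ * (if χ = ψ then (160 : ℤ) else 0) := by
      rw [Finset.mul_sum]
      refine Finset.sum_congr rfl fun χ _ => ?_
      simp only [mul_ite, mul_zero]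
      rw [Finset.sum_ite_eq]
      simp only [Finset.mem_univ, if_true]
      ring
    rw [h1, hQ, Finset.mul_sum, Finset.sum_congr rfl fun u _ => hW2 u, Finset.sum_comm (s := F),
      ← Finset.sum_add_distrib]
    refine Finset.sum_congr rfl fun χ _ => ?_
    rw [Finset.mul_sum, Finset.sum_comm (s := F), ← Finset.sum_add_distrib]
    refine Finset.sum_congr rfl fun ψ _ => ?_
    rw [h.tot χ ψ, mul_add, Finset.mul_sum]
    ring
  rw [Finset.sum_congr rfl fun u hu => hm u hu, Finset.sum_add_distrib, ← Finset.mul_sum,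
    Finset.sum_const, h.card_filter] at htot
  obtain ⟨k, hk⟩ := heven
  rw [hk] at htot
  simp only [nsmul_eq_mul, Nat.cast_ofNat, mul_one] at htot
  omega

omit h [Fintype D] [DecidableEq D] [Group D] [Fintype X] [DecidableEq X] in
theorem pointwise {a b c : ℤ} (ha : a ≠ 0) (hb : b ≠ 0) (hc : c ≠ 0) (hab : (4 : ℤ) ∣ a - b)
    (hac : (4 : ℤ) ∣ a - c) : 6 ≤ a * a + b * b + c * c + (a * b + a * c + b * c) := by
  have sq : ∀ t k : ℤ, 0 ≤ k → (k ≤ t ∨ t ≤ -k) → k * k ≤ t * t := by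
    intro t k hk ht
    rcases ht with ht | ht
    · nlinarith
    · nlinarith
  have key : 12 ≤ (a + b) * (a + b) + (a + c) * (a + c) + (b + c) * (b + c) := by
    rcases Int.even_or_odd' a with ⟨k, hk | hk⟩
    · have e : ∀ s t : ℤ, 2 ∣ s → 2 ∣ t → s ≠ 0 → t ≠ 0 → (0 < s ↔ 0 < t) →
          16 ≤ (s + t) * (s + t) := by
        intro s t hs ht hs0 ht0 hst
        exact sq (s + t) 4 (by norm_num) (by omega)
      have n : ∀ s : ℤ, 0 ≤ s * s := fun s => mul_self_nonneg s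
      have ha2 : (2 : ℤ) ∣ a := ⟨k, hk⟩
      have hb2 : (2 : ℤ) ∣ b := by omega
      have hc2 : (2 : ℤ) ∣ c := by omega
      by_cases h1 : (0 < a ↔ 0 < b)
      · have := e a b ha2 hb2 ha hb h1
        have := n (a + c)
        have := n (b + c)
        omega
      · by_cases h2 : (0 < a ↔ 0 < c)
        · have := e a c ha2 hc2 ha hc h2
          have := n (a + b)
          have := n (b + c)
          omega
        · have h3 : (0 < b ↔ 0 < c) := by tauto
          have := e b c hb2 hc2 hb hc h3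
          have := n (a + b)
          have := n (a + c)
          omega
    · have h1 := sq (a + b) 2 (by norm_num) (by omega)
      have h2 := sq (a + c) 2 (by norm_num) (by omega)
      have h3 := sq (b + c) 2 (by norm_num) (by omega)
      omega
  nlinarith

/-- The class of `u`. -/
def cls (τ : MulAut D) (v u : D) : Finset D :=
  (Finset.range 5).image (fun i => (τ ^ i) u) ∪ (Finset.range 5).image (fun i => v * (τ ^ i) u)

omit h [Fintype D] [Fintype X] [DecidableEq X] in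
theorem card_cls (τ : MulAut D) (v u : D) : (cls τ v u).card ≤ 10 := by
  refine (Finset.card_union_le _ _).trans ?_
  have h1 := Finset.card_image_le (s := Finset.range 5) (f := fun i => (τ ^ i) u)
  have h2 := Finset.card_image_le (s := Finset.range 5) (f := fun i => v * (τ ^ i) u)
  rw [Finset.card_range] at h1 h2
  omega

omit h [Fintype D] [Fintype X] [DecidableEq X] in
theorem notMem_cls {τ : MulAut D} {v u u' : D} (hu : u' ∉ cls τ v u) :
    ∀ i < 5, (τ ^ i) u ≠ u' ∧ v * (τ ^ i) u ≠ u' := by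
  intro i hi
  constructor
  · intro h
    exact hu (Finset.mem_union_left _ (Finset.mem_image.2 ⟨i, Finset.mem_range.2 hi, h⟩))
  · intro h
    exact hu (Finset.mem_union_right _ (Finset.mem_image.2 ⟨i, Finset.mem_range.2 hi, h⟩))

theorem Hyp.card_le (z : X → ℤ) (hodd : Odd (∑ χ, ∑ ψ, z χ * z ψ * r χ ψ)) :
    Fintype.card X ≤ 8 := by
  set F := Finset.univ.filter (fun u : D => u ≠ 1 ∧ u ≠ v) with hF
  have hmemF : ∀ u, u ∈ F ↔ u ≠ 1 ∧ u ≠ v := fun u => by simp [hF]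
  have hFc : F.card = 30 := h.card_filter
  -- an odd entry
  obtain ⟨χ₀, ψ₀, h0⟩ : ∃ χ₀ ψ₀, Odd (r χ₀ ψ₀) := by
    by_contra hno
    push Not at hno
    rw [← Int.not_even_iff_odd] at hodd
    apply hodd
    refine Finset.even_sum _ fun χ _ => Finset.even_sum _ fun ψ _ => ?_
    exact (Int.not_odd_iff_even.1 (hno χ ψ)).mul_left _
  have hw0 : ∀ u ∈ F, Odd (w u χ₀) := by
    intro u hu
    have h1 := h.mod4 ((hmemF u).1 hu).1 ((hmemF u).1 hu).2 χ₀ ψ₀
    by_contra hno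
    rw [Int.not_odd_iff_even] at hno
    obtain ⟨k, hk⟩ := hno
    obtain ⟨q, hq⟩ := h0
    obtain ⟨c, hc⟩ := h1
    rw [hk, hq] at hc
    have h3 : (k + k) * w u ψ₀ = 2 * (k * w u ψ₀) := by ring
    omega
  -- the representatives
  obtain ⟨y₁, hy₁⟩ : F.Nonempty := Finset.card_pos.1 (by omega)
  obtain ⟨y₂, hy₂F, hy₂⟩ : ∃ y ∈ F, y ∉ cls τ v y₁ := by
    refine Finset.exists_mem_notMem_of_card_lt_card ?_
    have := card_cls τ v y₁
    omega
  obtain ⟨y₃, hy₃F, hy₃⟩ : ∃ y ∈ F, y ∉ cls τ v y₁ ∪ cls τ v y₂ := by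
    refine Finset.exists_mem_notMem_of_card_lt_card ?_
    have h1 := card_cls τ v y₁
    have h2 := card_cls τ v y₂
    have h3 := Finset.card_union_le (cls τ v y₁) (cls τ v y₂)
    omega
  rw [Finset.notMem_union] at hy₃
  have horth : ∀ {u u' : D}, u ∈ F → u' ∈ F → u' ∉ cls τ v u → ∑ χ, w u χ * w u' χ = 0 := by
    intro u u' hu hu' hn
    exact h.orth u u' ((hmemF u).1 hu).1 ((hmemF u).1 hu).2 ((hmemF u').1 hu').1
      ((hmemF u').1 hu').2 (notMem_cls hn)
  -- signs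
  let s : D → ℤ := fun u => if w u χ₀ % 4 = 1 then 1 else -1
  have hs : ∀ u, s u * s u = 1 := by
    intro u
    simp only [s]
    split_ifs <;> norm_num
  have hs0 : ∀ u ∈ F, ∃ k : ℤ, s u * w u χ₀ = 4 * k + 1 := by
    intro u hu
    obtain ⟨q, hq⟩ := hw0 u hu
    by_cases h1 : w u χ₀ % 4 = 1
    · have h2 : s u = 1 := if_pos h1
      rw [h2, one_mul]
      exact ⟨w u χ₀ / 4, by omega⟩
    · have h2 : s u = -1 := if_neg h1
      rw [h2]
      exact ⟨(-w u χ₀) / 4, by omega⟩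
  have hcong : ∀ u ∈ F, ∀ χ, (4 : ℤ) ∣ s u * w u χ - r χ χ₀ := by
    intro u hu χ
    obtain ⟨k, hk⟩ := hs0 u hu
    obtain ⟨c, hc⟩ := h.mod4 ((hmemF u).1 hu).1 ((hmemF u).1 hu).2 χ χ₀
    have h1 : w u χ * w u χ₀ = (s u * w u χ) * (s u * w u χ₀) := by
      calc w u χ * w u χ₀ = (s u * s u) * (w u χ * w u χ₀) := by rw [hs, one_mul]
        _ = _ := by ring
    rw [h1, hk] at hc
    refine ⟨c - s u * w u χ * k, ?_⟩
    linear_combination hc
  have hcong' : ∀ u ∈ F, ∀ u' ∈ F, ∀ χ, (4 : ℤ) ∣ s u * w u χ - s u' * w u' χ := by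
    intro u hu u' hu' χ
    have h1 := hcong u hu χ
    have h2 := hcong u' hu' χ
    omega
  have hne : ∀ u ∈ F, ∀ χ, s u * w u χ ≠ 0 := by
    intro u hu χ h0
    apply h.nz u χ ((hmemF u).1 hu).1 ((hmemF u).1 hu).2
    calc w u χ = (s u * s u) * w u χ := by rw [hs, one_mul]
      _ = s u * (s u * w u χ) := by ring
      _ = 0 := by rw [h0, mul_zero]
  have hsum : ∑ χ : X, (6 : ℤ) ≤ ∑ χ, ((s y₁ * w y₁ χ) * (s y₁ * w y₁ χ) +
      (s y₂ * w y₂ χ) * (s y₂ * w y₂ χ) + (s y₃ * w y₃ χ) * (s y₃ * w y₃ χ) +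
      ((s y₁ * w y₁ χ) * (s y₂ * w y₂ χ) + (s y₁ * w y₁ χ) * (s y₃ * w y₃ χ) +
        (s y₂ * w y₂ χ) * (s y₃ * w y₃ χ))) := by
    refine Finset.sum_le_sum fun χ _ => ?_
    exact pointwise (hne y₁ hy₁ χ) (hne y₂ hy₂F χ) (hne y₃ hy₃F χ)
      (hcong' y₁ hy₁ y₂ hy₂F χ) (hcong' y₁ hy₁ y₃ hy₃F χ)
  have hnorm : ∀ u ∈ F, ∑ χ, (s u * w u χ) * (s u * w u χ) = 16 := by
    intro u hu
    rw [← h.norm u ((hmemF u).1 hu).1 ((hmemF u).1 hu).2]
    refine Finset.sum_congr rfl fun χ _ => ?_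
    calc (s u * w u χ) * (s u * w u χ) = (s u * s u) * (w u χ * w u χ) := by ring
      _ = _ := by rw [hs, one_mul]
  have hprod : ∀ u u', ∑ χ, w u χ * w u' χ = 0 →
      ∑ χ, (s u * w u χ) * (s u' * w u' χ) = 0 := by
    intro u u' h1
    have h2 : ∑ χ, (s u * w u χ) * (s u' * w u' χ) = (s u * s u') * ∑ χ, w u χ * w u' χ := by
      rw [Finset.mul_sum]
      refine Finset.sum_congr rfl fun χ _ => ?_
      ring
    rw [h2, h1, mul_zero]
  simp only [Finset.sum_add_distrib] at hsum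
  rw [hnorm y₁ hy₁, hnorm y₂ hy₂F, hnorm y₃ hy₃F, hprod y₁ y₂ (horth hy₁ hy₂F hy₂),
    hprod y₁ y₃ (horth hy₁ hy₃F hy₃.1), hprod y₂ y₃ (horth hy₂F hy₃F hy₃.2)] at hsum
  rw [Finset.sum_const, Finset.card_univ, nsmul_eq_mul] at hsum
  omega

/-- The trace. -/
theorem Hyp.trace : 160 * (Fintype.card X : ℤ) = 10 * ∑ χ, r χ χ + 480 := by
  set F := Finset.univ.filter (fun u : D => u ≠ 1 ∧ u ≠ v) with hF
  have hmemF : ∀ u, u ∈ F ↔ u ≠ 1 ∧ u ≠ v := fun u => by simp [hF]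
  have h1 : ∑ χ : X, (160 : ℤ) = ∑ χ, (10 * r χ χ + ∑ u ∈ F, w u χ * w u χ) := by
    refine Finset.sum_congr rfl fun χ _ => ?_
    have := h.tot χ χ
    rwa [if_pos rfl] at this
  rw [Finset.sum_const, Finset.card_univ, nsmul_eq_mul, Finset.sum_add_distrib,
    Finset.sum_comm (t := F), ← Finset.mul_sum,
    Finset.sum_congr rfl fun u hu => h.norm u ((hmemF u).1 hu).1 ((hmemF u).1 hu).2,
    Finset.sum_const, h.card_filter] at h1
  simp only [nsmul_eq_mul, Nat.cast_ofNat] at h1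
  linarith

/-- **The bound** for the rank. -/
theorem Hyp.rank_le {l : ℕ} (hl : ∑ χ, r χ χ = 16 * l) (z : X → ℤ)
    (hodd : Odd (∑ χ, ∑ ψ, z χ * z ψ * r χ ψ)) : l ≤ 5 := by
  have h1 := h.trace
  have h2 := h.card_le z hodd
  rw [hl] at h1
  omega

end arith

end Cfsg.Agent.H617.FiveCore
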