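import Mathlib
import Cfsg.Agent.H617.FiveCore

/-!
# Arithmetic core for an inertial quotient of order five: all nonzero values
-/

set_option autoImplicit false
set_option linter.unusedSectionVars false

namespace Cfsg.Agent.H617.FiveCore

variable {D : Type*} [Group D] [Fintype D] [DecidableEq D] {X : Type*} [Fintype X]
  [DecidableEq X]

theorem pointwise_even {a b c : ℤ} (ha : a ≠ 0) (hb : b ≠ 0) (hc : c ≠ 0) (hab : (4 : ℤ) ∣ a - b)
    (hac : (4 : ℤ) ∣ a - c) (he : Even a) :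
    8 ≤ a * a + b * b + c * c + (a * b + a * c + b * c) := by
  have sq : ∀ t k : ℤ, 0 ≤ k → (k ≤ t ∨ t ≤ -k) → k * k ≤ t * t := by
    intro t k hk ht
    rcases ht with ht | ht
    · nlinarith
    · nlinarith
  have key : 16 ≤ (a + b) * (a + b) + (a + c) * (a + c) + (b + c) * (b + c) := by
    obtain ⟨k, hk⟩ := he
    have e : ∀ s t : ℤ, 2 ∣ s → 2 ∣ t → s ≠ 0 → t ≠ 0 → (0 < s ↔ 0 < t) →
        16 ≤ (s + t) * (s + t) := by
      intro s t hs ht hs0 ht0 hst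
      exact sq (s + t) 4 (by norm_num) (by omega)
    have n : ∀ s : ℤ, 0 ≤ s * s := fun s => mul_self_nonneg s
    have ha2 : (2 : ℤ) ∣ a := ⟨k, by omega⟩
    have hb2 : (2 : ℤ) ∣ b := by omega
    have hc2 : (2 : ℤ) ∣ c := by omega
    by_cases h1 : (0 < a ↔ 0 < b)
    · have := e a b ha2 hb2 ha hb h1
      have := n (a + c)
      have := n (b + c)
      omega
    · by_cases h2 : (0 < a ↔ 0 < c)
      · have := e a c ha2 hc2 ha hc h2
        have := n (a + b)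
        have := n (b + c)
        omega
      · have h3 : (0 < b ↔ 0 < c) := by tauto
        have := e b c hb2 hc2 hb hc h3
        have := n (a + b)
        have := n (a + c)
        omega
  nlinarith

variable {τ : MulAut D} {v : D} {w : D → X → ℤ} {r : X → X → ℤ} (h : Hyp τ v w r)

include h

/-- Signs and the pointwise lower bound. -/
theorem Hyp.exists_P (z : X → ℤ) (hodd : Odd (∑ χ, ∑ ψ, z χ * z ψ * r χ ψ)) :
    ∃ (s : D → ℤ) (P : X → ℤ), (∀ u, s u * s u = 1) ∧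
      (∀ u, u ≠ 1 → u ≠ v → ∀ u', u' ≠ 1 → u' ≠ v → ∀ χ, (4 : ℤ) ∣ s u * w u χ - s u' * w u' χ) ∧
      ∑ χ, P χ = 48 ∧ (∀ χ, 6 ≤ P χ) ∧
      ∀ χ, ∀ u, u ≠ 1 → u ≠ v → Even (w u χ) → 8 ≤ P χ := by
  set F := Finset.univ.filter (fun u : D => u ≠ 1 ∧ u ≠ v) with hF
  have hmemF : ∀ u, u ∈ F ↔ u ≠ 1 ∧ u ≠ v := fun u => by simp [hF]
  have hFc : F.card = 30 := h.card_filter
  -- an odd entry
  obtain ⟨χ₀, ψ₀, h0⟩ : ∃ χ₀ ψ₀, Odd (r χ₀ ψ₀) := by
    by_contra hno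
    push Not at hno
    rw [← Int.not_even_iff_odd] at hodd
    apply hodd
    refine Finset.even_sum _ fun χ _ => Finset.even_sum _ fun ψ _ => ?_
    exact (Int.not_odd_iff_even.1 (hno χ ψ)).mul_left _
  have hw0 : ∀ u ∈ F, Odd (w u χ₀) := by
    intro u hu
    have h1 := h.mod4 ((hmemF u).1 hu).1 ((hmemF u).1 hu).2 χ₀ ψ₀
    by_contra hno
    rw [Int.not_odd_iff_even] at hno
    obtain ⟨k, hk⟩ := hno
    obtain ⟨q, hq⟩ := h0
    obtain ⟨c, hc⟩ := h1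
    rw [hk, hq] at hc
    have h3 : (k + k) * w u ψ₀ = 2 * (k * w u ψ₀) := by ring
    omega
  -- the representatives
  obtain ⟨y₁, hy₁⟩ : F.Nonempty := Finset.card_pos.1 (by omega)
  obtain ⟨y₂, hy₂F, hy₂⟩ : ∃ y ∈ F, y ∉ cls τ v y₁ := by
    refine Finset.exists_mem_notMem_of_card_lt_card ?_
    have := card_cls τ v y₁
    omega
  obtain ⟨y₃, hy₃F, hy₃⟩ : ∃ y ∈ F, y ∉ cls τ v y₁ ∪ cls τ v y₂ := by
    refine Finset.exists_mem_notMem_of_card_lt_card ?_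
    have h1 := card_cls τ v y₁
    have h2 := card_cls τ v y₂
    have h3 := Finset.card_union_le (cls τ v y₁) (cls τ v y₂)
    omega
  rw [Finset.notMem_union] at hy₃
  have horth : ∀ {u u' : D}, u ∈ F → u' ∈ F → u' ∉ cls τ v u → ∑ χ, w u χ * w u' χ = 0 := by
    intro u u' hu hu' hn
    exact h.orth u u' ((hmemF u).1 hu).1 ((hmemF u).1 hu).2 ((hmemF u').1 hu').1
      ((hmemF u').1 hu').2 (notMem_cls hn)
  -- signs
  let s : D → ℤ := fun u => if w u χ₀ % 4 = 1 then 1 else -1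
  have hs : ∀ u, s u * s u = 1 := by
    intro u
    simp only [s]
    split_ifs <;> norm_num
  have hs0 : ∀ u ∈ F, ∃ k : ℤ, s u * w u χ₀ = 4 * k + 1 := by
    intro u hu
    obtain ⟨q, hq⟩ := hw0 u hu
    by_cases h1 : w u χ₀ % 4 = 1
    · have h2 : s u = 1 := if_pos h1
      rw [h2, one_mul]
      exact ⟨w u χ₀ / 4, by omega⟩
    · have h2 : s u = -1 := if_neg h1
      rw [h2]
      exact ⟨(-w u χ₀) / 4, by omega⟩
  have hcong : ∀ u ∈ F, ∀ χ, (4 : ℤ) ∣ s u * w u χ - r χ χ₀ := by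
    intro u hu χ
    obtain ⟨k, hk⟩ := hs0 u hu
    obtain ⟨c, hc⟩ := h.mod4 ((hmemF u).1 hu).1 ((hmemF u).1 hu).2 χ χ₀
    have h1 : w u χ * w u χ₀ = (s u * w u χ) * (s u * w u χ₀) := by
      calc w u χ * w u χ₀ = (s u * s u) * (w u χ * w u χ₀) := by rw [hs, one_mul]
        _ = _ := by ring
    rw [h1, hk] at hc
    refine ⟨c - s u * w u χ * k, ?_⟩
    linear_combination hc
  have hcong' : ∀ u ∈ F, ∀ u' ∈ F, ∀ χ, (4 : ℤ) ∣ s u * w u χ - s u' * w u' χ := by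
    intro u hu u' hu' χ
    have h1 := hcong u hu χ
    have h2 := hcong u' hu' χ
    omega
  have hne : ∀ u ∈ F, ∀ χ, s u * w u χ ≠ 0 := by
    intro u hu χ h0
    apply h.nz u χ ((hmemF u).1 hu).1 ((hmemF u).1 hu).2
    calc w u χ = (s u * s u) * w u χ := by rw [hs, one_mul]
      _ = s u * (s u * w u χ) := by ring
      _ = 0 := by rw [h0, mul_zero]
  have hnorm : ∀ u ∈ F, ∑ χ, (s u * w u χ) * (s u * w u χ) = 16 := by
    intro u hu
    rw [← h.norm u ((hmemF u).1 hu).1 ((hmemF u).1 hu).2]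
    refine Finset.sum_congr rfl fun χ _ => ?_
    calc (s u * w u χ) * (s u * w u χ) = (s u * s u) * (w u χ * w u χ) := by ring
      _ = _ := by rw [hs, one_mul]
  have hprod : ∀ u u', ∑ χ, w u χ * w u' χ = 0 →
      ∑ χ, (s u * w u χ) * (s u' * w u' χ) = 0 := by
    intro u u' h1
    have h2 : ∑ χ, (s u * w u χ) * (s u' * w u' χ) = (s u * s u') * ∑ χ, w u χ * w u' χ := by
      rw [Finset.mul_sum]
      refine Finset.sum_congr rfl fun χ _ => ?_
      ring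
    rw [h2, h1, mul_zero]
  refine ⟨s, fun χ => ((s y₁ * w y₁ χ) * (s y₁ * w y₁ χ) +
      (s y₂ * w y₂ χ) * (s y₂ * w y₂ χ) + (s y₃ * w y₃ χ) * (s y₃ * w y₃ χ) +
      ((s y₁ * w y₁ χ) * (s y₂ * w y₂ χ) + (s y₁ * w y₁ χ) * (s y₃ * w y₃ χ) +
        (s y₂ * w y₂ χ) * (s y₃ * w y₃ χ))), hs,
    fun u hu huv u' hu' huv' χ => hcong' u ((hmemF u).2 ⟨hu, huv⟩) u' ((hmemF u').2 ⟨hu', huv'⟩) χ,
    ?_, ?_, ?_⟩
  · simp only [Finset.sum_add_distrib]
    rw [hnorm y₁ hy₁, hnorm y₂ hy₂F, hnorm y₃ hy₃F, hprod y₁ y₂ (horth hy₁ hy₂F hy₂),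
      hprod y₁ y₃ (horth hy₁ hy₃F hy₃.1), hprod y₂ y₃ (horth hy₂F hy₃F hy₃.2)]
    norm_num
  · intro χ
    exact pointwise (hne y₁ hy₁ χ) (hne y₂ hy₂F χ) (hne y₃ hy₃F χ)
      (hcong' y₁ hy₁ y₂ hy₂F χ) (hcong' y₁ hy₁ y₃ hy₃F χ)
  · intro χ u hu huv hev
    have hev' : Even (s y₁ * w y₁ χ) := by
      have h1 := hcong' y₁ hy₁ u ((hmemF u).2 ⟨hu, huv⟩) χ
      obtain ⟨c, hc⟩ := h1
      obtain ⟨d, hd⟩ := hev
      refine ⟨2 * c + s u * d, ?_⟩
      rw [hd] at hc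
      linear_combination hc
    exact pointwise_even (hne y₁ hy₁ χ) (hne y₂ hy₂F χ) (hne y₃ hy₃F χ)
      (hcong' y₁ hy₁ y₂ hy₂F χ) (hcong' y₁ hy₁ y₃ hy₃F χ) hev'

theorem Hyp.sq_eq (z : X → ℤ) (u : D) : (∑ χ, z χ * w u χ) * (∑ χ, z χ * w u χ) =
    ∑ χ, ∑ ψ, z χ * z ψ * (w u χ * w u ψ) := by
  rw [Finset.sum_mul_sum]
  refine Finset.sum_congr rfl fun χ _ => Finset.sum_congr rfl fun ψ _ => ?_
  ring

theorem Hyp.sq_mod4 (z : X → ℤ) {u : D} (hu : u ≠ 1) (huv : u ≠ v) :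
    (4 : ℤ) ∣ (∑ χ, z χ * w u χ) * (∑ χ, z χ * w u χ) - ∑ χ, ∑ ψ, z χ * z ψ * r χ ψ := by
  rw [h.sq_eq, ← Finset.sum_sub_distrib]
  refine Finset.dvd_sum fun χ _ => ?_
  rw [← Finset.sum_sub_distrib]
  refine Finset.dvd_sum fun ψ _ => ?_
  have h2 := h.mod4 hu huv χ ψ
  have h3 : z χ * z ψ * (w u χ * w u ψ) - z χ * z ψ * r χ ψ =
    z χ * z ψ * (w u χ * w u ψ - r χ ψ) := by ring
  rw [h3]
  exact h2.mul_left _

theorem Hyp.exists_ne : ∃ y : D, y ≠ 1 ∧ y ≠ v := by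
  have h1 := h.card_filter
  obtain ⟨y, hy⟩ : (Finset.univ.filter (fun u : D => u ≠ 1 ∧ u ≠ v)).Nonempty :=
    Finset.card_pos.1 (by omega)
  exact ⟨y, (Finset.mem_filter.1 hy).2⟩

/-- Nonzero values are at least four. -/
theorem Hyp.ge_four (z : X → ℤ) (hpos : 0 < ∑ χ, ∑ ψ, z χ * z ψ * r χ ψ) :
    4 ≤ ∑ χ, ∑ ψ, z χ * z ψ * r χ ψ := by
  by_cases hodd : Odd (∑ χ, ∑ ψ, z χ * z ψ * r χ ψ)
  · have := h.form_mod z hodd
    omega
  · rw [Int.not_odd_iff_even] at hodd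
    obtain ⟨y, hy, hyv⟩ := h.exists_ne
    have h1 := h.sq_mod4 z hy hyv
    obtain ⟨k, hk⟩ := hodd
    rcases Int.even_or_odd' (∑ χ, z χ * w y χ) with ⟨j, hj | hj⟩
    · rw [hj] at h1
      have h2 : 2 * j * (2 * j) = 4 * (j * j) := by ring
      omega
    · rw [hj] at h1
      have h2 : (2 * j + 1) * (2 * j + 1) = 4 * (j * j + j) + 1 := by ring
      omega

theorem Hyp.total (z : X → ℤ) : 160 * ∑ χ, z χ * z χ = 10 * (∑ χ, ∑ ψ, z χ * z ψ * r χ ψ) +
    ∑ u ∈ Finset.univ.filter (fun u : D => u ≠ 1 ∧ u ≠ v),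
      (∑ χ, z χ * w u χ) * (∑ χ, z χ * w u χ) := by
  set F := Finset.univ.filter (fun u : D => u ≠ 1 ∧ u ≠ v) with hF
  have h1 : 160 * ∑ χ, z χ * z χ =
      ∑ χ, ∑ ψ, z χ * z ψ * (if χ = ψ then (160 : ℤ) else 0) := by
    rw [Finset.mul_sum]
    refine Finset.sum_congr rfl fun χ _ => ?_
    simp only [mul_ite, mul_zero]
    rw [Finset.sum_ite_eq]
    simp only [Finset.mem_univ, if_true]
    ring
  rw [h1, Finset.mul_sum, Finset.sum_congr rfl fun u _ => h.sq_eq z u, Finset.sum_comm (s := F),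
    ← Finset.sum_add_distrib]
  refine Finset.sum_congr rfl fun χ _ => ?_
  rw [Finset.mul_sum, Finset.sum_comm (s := F), ← Finset.sum_add_distrib]
  refine Finset.sum_congr rfl fun ψ _ => ?_
  rw [h.tot χ ψ, mul_add, Finset.mul_sum]
  ring

/-- Nonzero values are at least five if the rank is five. -/
theorem Hyp.ge_five (z₀ : X → ℤ) (hodd₀ : Odd (∑ χ, ∑ ψ, z₀ χ * z₀ ψ * r χ ψ))
    (hl : ∑ χ, r χ χ = 16 * 5) (z : X → ℤ) (hpos : 0 < ∑ χ, ∑ ψ, z χ * z ψ * r χ ψ) :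
    5 ≤ ∑ χ, ∑ ψ, z χ * z ψ * r χ ψ := by
  set Q := ∑ χ, ∑ ψ, z χ * z ψ * r χ ψ with hQ
  have h4 := h.ge_four z hpos
  by_contra hlt
  have hQ4 : Q = 4 := by omega
  obtain ⟨s, P, hs, hcong, hP, hP6, hP8⟩ := h.exists_P z₀ hodd₀
  have hX : (Fintype.card X : ℤ) = 8 := by
    have := h.trace
    omega
  -- all entries are odd
  have hodd : ∀ χ, ∀ u, u ≠ 1 → u ≠ v → Odd (w u χ) := by
    intro χ u hu huv
    by_contra hno
    rw [Int.not_odd_iff_even] at hno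
    have h1 := hP8 χ u hu huv hno
    have h2 : ∑ ψ ∈ Finset.univ.erase χ, P ψ + P χ = 48 := by
      rw [Finset.sum_erase_add _ _ (Finset.mem_univ χ), hP]
    have h3 : (Finset.univ.erase χ).card • (6 : ℤ) ≤ ∑ ψ ∈ Finset.univ.erase χ, P ψ :=
      Finset.card_nsmul_le_sum _ _ _ fun ψ _ => hP6 ψ
    rw [Finset.card_erase_of_mem (Finset.mem_univ χ), Finset.card_univ, nsmul_eq_mul] at h3
    have h4 : ((Fintype.card X - 1 : ℕ) : ℤ) = 7 := by omega
    rw [h4] at h3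
    omega
  set F := Finset.univ.filter (fun u : D => u ≠ 1 ∧ u ≠ v) with hF
  have hmemF : ∀ u, u ∈ F ↔ u ≠ 1 ∧ u ≠ v := fun u => by simp [hF]
  let W : D → ℤ := fun u => ∑ χ, z χ * w u χ
  have hWeven : ∀ u ∈ F, ∃ k, W u = 2 * k := by
    intro u hu
    have h1 := h.sq_mod4 z ((hmemF u).1 hu).1 ((hmemF u).1 hu).2
    change (4 : ℤ) ∣ W u * W u - Q at h1
    rw [hQ4] at h1
    rcases Int.even_or_odd' (W u) with ⟨j, hj | hj⟩
    · exact ⟨j, hj⟩
    · rw [hj] at h1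
      have h2 : (2 * j + 1) * (2 * j + 1) = 4 * (j * j + j) + 1 := by ring
      omega
  have hch : ∀ u : D, ∃ k : ℤ, u ∈ F → W u = 2 * k := by
    intro u
    by_cases hu : u ∈ F
    · obtain ⟨k, hk⟩ := hWeven u hu
      exact ⟨k, fun _ => hk⟩
    · exact ⟨0, fun h => absurd h hu⟩
  choose V hV using hch
  have hVpar : ∀ u ∈ F, ∀ u' ∈ F, (2 : ℤ) ∣ V u - V u' := by
    intro u hu u' hu'
    have h1 : (4 : ℤ) ∣ s u * W u - s u' * W u' := by
      have h2 : s u * W u - s u' * W u' = ∑ χ, z χ * (s u * w u χ - s u' * w u' χ) := by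
        change s u * (∑ χ, z χ * w u χ) - s u' * (∑ χ, z χ * w u' χ) = _
        rw [Finset.mul_sum, Finset.mul_sum, ← Finset.sum_sub_distrib]
        refine Finset.sum_congr rfl fun χ _ => ?_
        ring
      rw [h2]
      refine Finset.dvd_sum fun χ _ => ?_
      exact (hcong u ((hmemF u).1 hu).1 ((hmemF u).1 hu).2 u' ((hmemF u').1 hu').1
        ((hmemF u').1 hu').2 χ).mul_left _
    rw [hV u hu, hV u' hu'] at h1
    have hsu : s u = 1 ∨ s u = -1 := by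
      have h3 := hs u
      have h4 : (s u - 1) * (s u + 1) = 0 := by linear_combination h3
      rcases mul_eq_zero.1 h4 with h5 | h5
      · exact Or.inl (by omega)
      · exact Or.inr (by omega)
    have hsu' : s u' = 1 ∨ s u' = -1 := by
      have h3 := hs u'
      have h4 : (s u' - 1) * (s u' + 1) = 0 := by linear_combination h3
      rcases mul_eq_zero.1 h4 with h5 | h5
      · exact Or.inl (by omega)
      · exact Or.inr (by omega)
    rcases hsu with e | e <;> rcases hsu' with e' | e' <;> rw [e, e'] at h1 <;> omega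
  have htot := h.total z
  rw [← hF, ← hQ, hQ4] at htot
  have hsumV : ∑ u ∈ F, (∑ χ, z χ * w u χ) * (∑ χ, z χ * w u χ) = 4 * ∑ u ∈ F, V u * V u := by
    rw [Finset.mul_sum]
    refine Finset.sum_congr rfl fun u hu => ?_
    change W u * W u = _
    rw [hV u hu]
    ring
  rw [hsumV] at htot
  obtain ⟨y, hy1, hyv⟩ := h.exists_ne
  have hyF : y ∈ F := (hmemF y).2 ⟨hy1, hyv⟩
  have hcF : F.card = 30 := h.card_filter
  have hVodd : ∀ u ∈ F, ∃ k, V u = 2 * k + 1 := by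
    by_contra hno
    push Not at hno
    obtain ⟨u₀, hu₀, hno⟩ := hno
    have hev : ∀ u ∈ F, ∃ k, V u * V u = 4 * k := by
      intro u hu
      have h1 := hVpar u hu u₀ hu₀
      rcases Int.even_or_odd' (V u₀) with ⟨j, hj | hj⟩
      · rw [hj] at h1
        obtain ⟨c, hc⟩ : ∃ c, V u = 2 * c := ⟨V u / 2, by omega⟩
        exact ⟨c * c, by rw [hc]; ring⟩
      · exact absurd hj (hno j)
    have hd : (4 : ℤ) ∣ ∑ u ∈ F, V u * V u := Finset.dvd_sum fun u hu => by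
      obtain ⟨k, hk⟩ := hev u hu
      exact ⟨k, hk⟩
    omega
  have hWodd : ∀ u : D, ∃ m : ℤ, u ∈ F → V u * V u = 8 * m + 1 := by
    intro u
    by_cases hu : u ∈ F
    · obtain ⟨k, hk⟩ := hVodd u hu
      obtain ⟨j, hj⟩ := Int.even_mul_succ_self k
      refine ⟨j, fun _ => ?_⟩
      rw [hk]
      have h3 : (2 * k + 1) * (2 * k + 1) = 4 * (k * (k + 1)) + 1 := by ring
      rw [h3, hj]
      ring
    · exact ⟨0, fun h => absurd h hu⟩
  choose m hm using hWodd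
  have hvF : ∀ u ∈ F, v * u ∈ F := by
    intro u hu
    obtain ⟨h1, h2⟩ := (hmemF u).1 hu
    refine (hmemF _).2 ⟨fun h3 => h2 ?_, fun h3 => h1 ?_⟩
    · calc u = (v * v) * u := by rw [h.hel, one_mul]
        _ = v * (v * u) := by group
        _ = v := by rw [h3, mul_one]
    · exact mul_left_cancel (a := v) (by rw [h3, mul_one])
  have hvW : ∀ u ∈ F, W (v * u) * W (v * u) = W u * W u := by
    intro u hu
    change (∑ χ, z χ * w (v * u) χ) * (∑ χ, z χ * w (v * u) χ) =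
      (∑ χ, z χ * w u χ) * (∑ χ, z χ * w u χ)
    rw [h.sq_eq, h.sq_eq]
    refine Finset.sum_congr rfl fun χ _ => Finset.sum_congr rfl fun ψ _ => ?_
    rw [h.wv u χ ψ ((hmemF u).1 hu).1 ((hmemF u).1 hu).2]
  have hmv : ∀ u ∈ F, m (v * u) = m u := by
    intro u hu
    have h1 := hm _ (hvF u hu)
    have h2 := hm _ hu
    have h3 := hvW u hu
    rw [hV u hu, hV _ (hvF u hu)] at h3
    have h4 : 2 * V (v * u) * (2 * V (v * u)) = 4 * (V (v * u) * V (v * u)) := by ring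
    have h5 : 2 * V u * (2 * V u) = 4 * (V u * V u) := by ring
    omega
  have heven : (2 : ℤ) ∣ ∑ u ∈ F, m u := by
    refine (ZMod.intCast_zmod_eq_zero_iff_dvd _ 2).1 ?_
    push_cast
    refine Finset.sum_involution (fun u _ => v * u) ?_ ?_ ?_ ?_
    · intro u hu
      rw [hmv u hu]
      generalize (m u : ZMod 2) = t
      revert t
      decide
    · intro u hu _ h1
      exact h.hv1 (mul_right_cancel (b := u) (by rw [h1, one_mul]))
    · intro u hu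
      exact hvF u hu
    · intro u hu
      rw [← mul_assoc, h.hel, one_mul]
  rw [Finset.sum_congr rfl fun u hu => hm u hu, Finset.sum_add_distrib, ← Finset.mul_sum,
    Finset.sum_const, hcF] at htot
  obtain ⟨k, hk⟩ := heven
  rw [hk] at htot
  simp only [nsmul_eq_mul, Nat.cast_ofNat, mul_one] at htot
  -- the parity of the norm
  have hzeven : (2 : ℤ) ∣ ∑ χ, z χ * z χ := by
    have h1 : (2 : ℤ) ∣ ∑ χ, z χ * z χ - W y := by
      change (2 : ℤ) ∣ ∑ χ, z χ * z χ - ∑ χ, z χ * w y χ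
      rw [← Finset.sum_sub_distrib]
      refine Finset.dvd_sum fun χ _ => ?_
      obtain ⟨c, hc⟩ := hodd χ y hy1 hyv
      obtain ⟨d, hd⟩ := Int.even_mul_pred_self (z χ)
      rw [hc]
      refine ⟨d - z χ * c, ?_⟩
      linear_combination hd
    rw [hV y hyF] at h1
    omega
  omega

end Cfsg.Agent.H617.FiveCore
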