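import Mathlib
import Cfsg.Agent.H809.OddAct

/-!
# The odd action lemma for abelian 2-groups of rank at most five
-/

set_option autoImplicit false
set_option linter.unusedSectionVars false

namespace Cfsg.Agent.H617.OddActRank

open Cfsg.Agent.H809.OddAct

variable {V : Type*} [CommGroup V] [Finite V]

theorem pow_fix {s : MulAut V} {y : V} (h : s y = y) (n : ℕ) : (s ^ n) y = y := by
  induction n with
  | zero => rfl
  | succ n ih => rw [pow_succ, MulAut.mul_apply, h, ih]

/-- The telescope. -/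
theorem pow_comm (s : MulAut V) (x : V) (h : s (x⁻¹ * s x) = x⁻¹ * s x) (n : ℕ) :
    (s ^ n) x = x * (x⁻¹ * s x) ^ n := by
  induction n with
  | zero => simp
  | succ n ih =>
    have h1 : s x = x * (x⁻¹ * s x) := by group
    calc (s ^ (n + 1)) x = (s ^ n) (s x) := by rw [pow_succ, MulAut.mul_apply]
      _ = (s ^ n) (x * (x⁻¹ * s x)) := by rw [← h1]
      _ = (s ^ n) x * (x⁻¹ * s x) := by rw [map_mul, pow_fix h]
      _ = _ := by rw [ih, pow_succ]; group

theorem eq_one_of_odd_pow (hV : IsPGroup 2 V) {y : V} {n : ℕ} (hn : Odd n) (h : y ^ n = 1) :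
    y = 1 := by
  obtain ⟨k, hk⟩ := (IsPGroup.iff_orderOf.1 hV) y
  have h1 : orderOf y ∣ n := orderOf_dvd_of_pow_eq_one h
  rw [hk] at h1
  have h2 : Nat.Coprime (2 ^ k) n := by
    apply Nat.Coprime.pow_left
    exact (Nat.coprime_two_left).2 hn
  have h3 := Nat.Coprime.eq_one_of_dvd h2 h1
  rw [h3] at hk
  exact orderOf_eq_one_iff.1 hk

theorem fix_of_comm (hV : IsPGroup 2 V) {s : MulAut V} {n : ℕ} (hn : Odd n) (hs : s ^ n = 1)
    {x : V} (h : s (x⁻¹ * s x) = x⁻¹ * s x) : x⁻¹ * s x = 1 := by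
  have h1 := pow_comm s x h n
  rw [hs, MulAut.one_apply] at h1
  have h2 : (x⁻¹ * s x) ^ n = 1 := by
    have h3 : x * 1 = x * (x⁻¹ * s x) ^ n := by rw [mul_one]; exact h1
    exact (mul_left_cancel h3).symm
  exact eq_one_of_odd_pow hV hn h2

/-- The commutator map. -/
def cm (s : MulAut V) : V →* V :=
  MonoidHom.mk' (fun x => x⁻¹ * s x) (fun a b => by
    rw [map_mul, mul_inv]
    exact mul_mul_mul_comm _ _ _ _)

theorem cm_apply (s : MulAut V) (x : V) : cm s x = x⁻¹ * s x := rfl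

theorem range_disj (hV : IsPGroup 2 V) {s : MulAut V} {n : ℕ} (hn : Odd n) (hs : s ^ n = 1)
    {y : V} (hy : y ∈ (cm s).range) (hf : s y = y) : y = 1 := by
  obtain ⟨x, rfl⟩ := hy
  exact fix_of_comm hV hn hs hf

/-- A square of order two in the cyclic group of an element of order at least four. -/
theorem exists_sq (hV : IsPGroup 2 V) {K : Subgroup V} {y : V} (hy : y ∈ K) (hyy : y * y ≠ 1) :
    ∃ w ∈ K, w * w ≠ 1 ∧ (w * w) * (w * w) = 1 := by
  obtain ⟨k, hk⟩ := (IsPGroup.iff_orderOf.1 hV) y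
  have hk2 : 2 ≤ k := by
    by_contra hlt
    have h1 : k ≤ 1 := by omega
    have h2 : orderOf y ∣ 2 := by
      rw [hk]
      exact (pow_dvd_pow 2 h1).trans (by norm_num)
    exact hyy (by rw [← pow_two]; exact orderOf_dvd_iff_pow_eq_one.1 h2)
  have e1 : (y ^ 2 ^ (k - 2)) * (y ^ 2 ^ (k - 2)) = y ^ 2 ^ (k - 1) := by
    rw [← pow_add]
    congr 1
    have : k - 1 = (k - 2) + 1 := by omega
    rw [this, pow_succ]
    ring
  refine ⟨y ^ 2 ^ (k - 2), K.pow_mem hy _, ?_, ?_⟩
  · rw [e1]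
    intro h
    have h1 := orderOf_dvd_of_pow_eq_one h
    rw [hk, Nat.pow_dvd_pow_iff_le_right (by norm_num)] at h1
    omega
  · rw [e1, ← pow_add, ← two_mul, ← pow_succ']
    have : k - 1 + 1 = k := by omega
    rw [this, ← hk, pow_orderOf_eq_one]

/-- The elements of order at most two. -/
def Om (V : Type*) [CommGroup V] : Subgroup V where
  carrier := {x | x * x = 1}
  one_mem' := mul_one 1
  mul_mem' := by
    rintro a b (ha : a * a = 1) (hb : b * b = 1)
    change a * b * (a * b) = 1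
    rw [mul_mul_mul_comm, ha, hb, mul_one]
  inv_mem' := by
    rintro a (ha : a * a = 1)
    change a⁻¹ * a⁻¹ = 1
    rw [← mul_inv, ha, inv_one]

omit [Finite V] in
theorem mem_Om {x : V} : x ∈ Om V ↔ x * x = 1 := Iff.rfl

omit [Finite V] in
theorem apply_mem_Om (s : MulAut V) {x : V} (hx : x ∈ Om V) : s x ∈ Om V := by
  rw [mem_Om] at hx ⊢
  rw [← map_mul, hx, map_one]

/-- Restriction to the elements of order at most two. -/
def res (V : Type*) [CommGroup V] : MulAut V →* MulAut (Om V) where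
  toFun s :=
    { toFun := fun x => ⟨s x, apply_mem_Om s x.2⟩
      invFun := fun x => ⟨s⁻¹ x, apply_mem_Om s⁻¹ x.2⟩
      left_inv := fun x => Subtype.ext (MulAut.inv_apply_self V s x)
      right_inv := fun x => Subtype.ext (MulAut.apply_inv_self V s x)
      map_mul' := fun x y => Subtype.ext (map_mul s (x : V) y) }
  map_one' := rfl
  map_mul' _ _ := rfl

omit [Finite V] in
theorem res_apply (s : MulAut V) (x : Om V) : ((res V s x : Om V) : V) = s x := rfl

/-- A coprime automorphism is faithful on the elements of order at most two. -/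
theorem eq_one_of_res (hV : IsPGroup 2 V) {s : MulAut V} {n : ℕ} (hn : Odd n) (hs : s ^ n = 1)
    (h : res V s = 1) : s = 1 := by
  ext x
  rw [MulAut.one_apply]
  by_contra hx
  have hy : (x⁻¹ * s x) ∈ (cm s).range := ⟨x, rfl⟩
  have hy1 : x⁻¹ * s x ≠ 1 := by
    intro h1
    exact hx (by rw [inv_mul_eq_one] at h1; exact h1.symm)
  have hfix : ∀ v ∈ (cm s).range, v * v = 1 → v = 1 := by
    intro v hv hvv
    refine range_disj hV hn hs hv ?_
    have h1 := res_apply s (⟨v, hvv⟩ : Om V)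
    rw [h, MulAut.one_apply] at h1
    exact h1.symm
  by_cases hyy : (x⁻¹ * s x) * (x⁻¹ * s x) = 1
  · exact hy1 (hfix _ hy hyy)
  · obtain ⟨w, hw, hw1, hw2⟩ := exists_sq hV hy hyy
    exact hw1 (hfix _ ((cm s).range.mul_mem hw hw) hw2)

omit [Finite V] in
theorem mem_St' {A : Subgroup (MulAut V)} {u : V} {s : MulAut V} :
    s ∈ St A u ↔ s ∈ A ∧ s u = u := Iff.rfl

omit [Finite V] in
theorem zpow_fix {s : MulAut V} {x : V} (h : s x = x) (n : ℤ) : (s ^ n) x = x := by
  have h1 : s ∈ MulAction.stabilizer (MulAut V) x := h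
  exact (MulAction.stabilizer (MulAut V) x).zpow_mem h1 n

omit [Finite V] in
theorem fix_of_prime {T : Subgroup (MulAut V)} {p : ℕ} (hp : p.Prime) (h : Nat.card T = p)
    {s : MulAut V} (hs : s ∈ T) (hs1 : s ≠ 1) {x : V} (hx : s x = x) : ∀ t ∈ T, t x = x := by
  intro t ht
  have hF : Fact p.Prime := ⟨hp⟩
  have h1 : (⟨t, ht⟩ : T) ∈ Subgroup.zpowers (⟨s, hs⟩ : T) :=
    mem_zpowers_of_prime_card h fun h2 => hs1 (congrArg Subtype.val h2)
  obtain ⟨n, hn⟩ := h1
  have h2 : s ^ n = t := congrArg Subtype.val hn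
  rw [← h2, zpow_fix hx]

/-- Orders when the commutators are of order at most two. -/
theorem card_fix (hV : IsPGroup 2 V) {σ : MulAut V} (hσ : σ ^ 3 = 1)
    (hR : ∀ y ∈ (cm σ).range, y * y = 1)
    (hW : 4 * Nat.card {x : Om V // σ x = x} = Nat.card (Om V)) :
    4 * Nat.card {x : V // σ x = x} = Nat.card V := by
  classical
  let f : Om V →* V := (cm σ).comp (Om V).subtype
  have hf : ∀ x, f x = (x : V)⁻¹ * σ x := fun _ => rfl
  have hkf : Nat.card f.ker = Nat.card {x : Om V // σ x = x} := by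
    refine Nat.card_congr (Equiv.subtypeEquivRight fun x => ?_)
    rw [MonoidHom.mem_ker, hf, inv_mul_eq_one]
    exact eq_comm
  have hkρ : Nat.card (cm σ).ker = Nat.card {x : V // σ x = x} := by
    refine Nat.card_congr (Equiv.subtypeEquivRight fun x => ?_)
    rw [MonoidHom.mem_ker, cm_apply, inv_mul_eq_one]
    exact eq_comm
  have hfr : Nat.card f.range = 4 := by
    have h1 := Subgroup.card_mul_index f.ker
    rw [Subgroup.index_ker, hkf, ← hW] at h1
    have hpos : 0 < Nat.card {x : Om V // σ x = x} := by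
      have : Nonempty {x : Om V // σ x = x} := ⟨⟨1, map_one σ⟩⟩
      exact Nat.card_pos
    have h2 : Nat.card {x : Om V // σ x = x} * Nat.card f.range =
        Nat.card {x : Om V // σ x = x} * 4 := by rw [h1]; ring
    exact Nat.eq_of_mul_eq_mul_left hpos h2
  have hdisj : ∀ y ∈ (cm σ).range, σ y = y → y = 1 := fun y hy h =>
    range_disj hV (n := 3) (by decide) hσ hy h
  have hrr : (cm σ).range = f.range := by
    apply le_antisymm
    · -- the restriction to the range is injective, hence surjective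
      let g : (cm σ).range → (cm σ).range := fun y => ⟨cm σ y, ⟨y, rfl⟩⟩
      have hg : Function.Injective g := by
        intro y z h
        have h1 : cm σ (y : V) = cm σ z := congrArg Subtype.val h
        have h2 : cm σ ((y : V) * (z : V)⁻¹) = 1 := by rw [map_mul, map_inv, h1, mul_inv_cancel]
        have h3 : ((y : V) * (z : V)⁻¹) = 1 := by
          refine hdisj _ ((cm σ).range.mul_mem y.2 ((cm σ).range.inv_mem z.2)) ?_
          rw [cm_apply, inv_mul_eq_one] at h2
          exact h2.symm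
        exact Subtype.ext (mul_inv_eq_one.1 h3)
      intro y hy
      obtain ⟨z, hz⟩ := (Finite.surjective_of_injective hg) ⟨y, hy⟩
      exact ⟨⟨z, hR z z.2⟩, congrArg Subtype.val hz⟩
    · rintro _ ⟨x, rfl⟩
      exact ⟨x, rfl⟩
  have h1 := Subgroup.card_mul_index (cm σ).ker
  rw [Subgroup.index_ker, hkρ, hrr, hfr] at h1
  rw [← h1, mul_comm]

/-- **Lifting trick**: stabilizers of pairs `(v, y)`, `v` a square, `v` and `y` of order at most
two. -/
theorem exists_lift (A : Subgroup (MulAut V)) (hA : Odd (Nat.card A)) {w u : V}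
    (hw2 : (w * w) * (w * w) = 1) (hu : u * u = 1) :
    ∃ z : V, ∀ s, (s ∈ A ∧ s z = z) ↔ (s ∈ A ∧ s (w * w) = w * w ∧ s u = u) := by
  classical
  set v := w * w with hv
  have := Fintype.ofFinite (St A v)
  set w₀ : V := ∏ s : St A v, (s : MulAut V) w with hw₀
  have hN : Odd (Fintype.card (St A v)) := by
    rw [← Nat.card_eq_fintype_card]
    exact Odd.of_dvd_nat hA (Subgroup.card_dvd_of_le (St_le A v))
  have hw₀2 : w₀ * w₀ = v := by
    rw [hw₀, ← Finset.prod_mul_distrib]
    have h1 : ∀ s : St A v, (s : MulAut V) w * (s : MulAut V) w = v := by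
      intro s
      rw [← map_mul, ← hv, s.2.2]
    rw [Finset.prod_congr rfl fun s _ => h1 s, Finset.prod_const, Finset.card_univ]
    obtain ⟨m, hm⟩ := hN
    rw [hm, pow_succ, pow_mul, pow_two, hw2, one_pow, one_mul]
  have hw₀s : ∀ s ∈ St A v, s w₀ = w₀ := by
    intro s hs
    rw [hw₀, map_prod]
    refine Fintype.prod_equiv (Equiv.mulLeft (⟨s, hs⟩ : St A v)) _ _ fun t => rfl
  refine ⟨w₀ * u, fun s => ⟨?_, ?_⟩⟩
  · rintro ⟨hs, h⟩
    have h1 : s v = v := by
      have h2 : (w₀ * u) * (w₀ * u) = v := by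
        rw [mul_mul_mul_comm, hw₀2, hu, mul_one]
      rw [← h2, map_mul, h]
    refine ⟨hs, h1, ?_⟩
    rw [map_mul, hw₀s s ⟨hs, h1⟩] at h
    exact mul_left_cancel h
  · rintro ⟨hs, h1, h2⟩
    refine ⟨hs, ?_⟩
    rw [map_mul, hw₀s s ⟨hs, h1⟩, h2]

/-- **The odd action lemma** in rank at most five. -/
theorem exists_good_rank (hV : IsPGroup 2 V) (hcard : Nat.card {x : V // x * x = 1} ≤ 32)
    (A : Subgroup (MulAut V)) (hA : Odd (Nat.card A)) :
    ∃ u : V, ∃ S : Subgroup (MulAut V), (∀ s, s ∈ S ↔ s ∈ A ∧ s u = u) ∧ (Nat.card S = 1 ∨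
      (Nat.card S = 3 ∧ 4 * Nat.card {x : V // ∀ s ∈ S, s x = x} = Nat.card V) ∨
      (Nat.card S = 5 ∧ Nat.card V = 32 ∧ (∀ x : V, x * x = 1) ∧ u ≠ 1 ∧
        ∀ x : V, (∀ s ∈ S, s x = x) → x = 1 ∨ x = u)) := by
  classical
  have hpow : ∀ s ∈ A, s ^ Nat.card A = 1 := by
    intro s hs
    have h1 : (⟨s, hs⟩ : A) ^ Nat.card A = 1 := pow_card_eq_one'
    exact congrArg Subtype.val h1
  have hinj : ∀ s ∈ A, ∀ t ∈ A, res V s = res V t → s = t := by
    intro s hs t ht h
    have h1 : res V (s * t⁻¹) = 1 := by rw [map_mul, map_inv, h, mul_inv_cancel]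
    have h2 := eq_one_of_res hV hA (hpow _ (A.mul_mem hs (A.inv_mem ht))) h1
    rwa [mul_inv_eq_one] at h2
  have hWp : IsPGroup 2 (Om V) := hV.to_subgroup _
  have hAW : Odd (Nat.card (A.map (res V))) :=
    Odd.of_dvd_nat hA (Subgroup.card_map_dvd _ (res V))
  obtain ⟨u, S, hS, hc⟩ := exists_good hWp hcard (A.map (res V)) hAW
  -- the stabilizer upstairs
  have hSeq : (St A (u : V)).map (res V) = S := by
    ext s
    rw [hS, Subgroup.mem_map, Subgroup.mem_map]
    constructor
    · rintro ⟨t, ht, rfl⟩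
      exact ⟨⟨t, ht.1, rfl⟩, Subtype.ext ht.2⟩
    · rintro ⟨⟨t, ht, rfl⟩, h⟩
      exact ⟨t, ⟨ht, congrArg Subtype.val h⟩, rfl⟩
  have hScard : Nat.card (St A (u : V)) = Nat.card S := by
    rw [← hSeq]
    refine Nat.card_congr (Equiv.ofBijective (fun s => ⟨res V s.1, ⟨s.1, s.2, rfl⟩⟩) ⟨?_, ?_⟩)
    · intro s t h
      exact Subtype.ext (hinj _ s.2.1 _ t.2.1 (congrArg Subtype.val h))
    · rintro ⟨_, s, hs, rfl⟩
      exact ⟨⟨s, hs⟩, rfl⟩
  have huu : (u : V) * u = 1 := u.2
  -- a trivial stabilizer from a square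
  have hlift : ∀ w : V, (w * w) * (w * w) = 1 → (∀ s ∈ St A (u : V), s (w * w) = w * w → s = 1) →
      ∃ u : V, ∃ S : Subgroup (MulAut V), (∀ s, s ∈ S ↔ s ∈ A ∧ s u = u) ∧ (Nat.card S = 1 ∨
      (Nat.card S = 3 ∧ 4 * Nat.card {x : V // ∀ s ∈ S, s x = x} = Nat.card V) ∨
      (Nat.card S = 5 ∧ Nat.card V = 32 ∧ (∀ x : V, x * x = 1) ∧ u ≠ 1 ∧
        ∀ x : V, (∀ s ∈ S, s x = x) → x = 1 ∨ x = u)) := by
    intro w hw h
    obtain ⟨z, hz⟩ := exists_lift A hA hw huu
    refine ⟨z, St A z, fun s => Iff.rfl, Or.inl ?_⟩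
    rw [Subgroup.card_eq_one, Subgroup.eq_bot_iff_forall]
    intro s hs
    obtain ⟨h1, h2, h3⟩ := (hz s).1 hs
    exact h s ⟨h1, h3⟩ h2
  rcases hc with h1 | ⟨h3, hW⟩ | ⟨h5, h32, hel, hu1, hfix⟩
  · exact ⟨u, St A (u : V), fun s => Iff.rfl, Or.inl (hScard.trans h1)⟩
  · -- order three
    rw [← hScard] at h3
    have hF3 : Fact (Nat.Prime 3) := ⟨Nat.prime_three⟩
    obtain ⟨σ, hσ, hσ1⟩ : ∃ σ ∈ St A (u : V), σ ≠ 1 := by
      by_contra hno
      push Not at hno
      have h1 : St A (u : V) = ⊥ := (Subgroup.eq_bot_iff_forall _).2 hno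
      rw [h1, Subgroup.card_bot] at h3
      norm_num at h3
    have hσ3 : σ ^ 3 = 1 := by
      have h1 : (⟨σ, hσ⟩ : St A (u : V)) ^ Nat.card (St A (u : V)) = 1 := pow_card_eq_one'
      rw [h3] at h1
      exact congrArg Subtype.val h1
    by_cases hex : ∃ y ∈ (cm σ).range, y * y ≠ 1
    · obtain ⟨y, hy, hyy⟩ := hex
      obtain ⟨w, hw, hw1, hw2⟩ := exists_sq hV hy hyy
      refine hlift w hw2 fun s hs hsw => ?_
      by_contra hs1
      have h1 := fix_of_prime Nat.prime_three h3 hs hs1 hsw σ hσ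
      exact hw1 (range_disj hV (n := 3) (by decide) hσ3 ((cm σ).range.mul_mem hw hw) h1)
    · push Not at hex
      refine ⟨u, St A (u : V), fun s => Iff.rfl, Or.inr (Or.inl ⟨h3, ?_⟩)⟩
      have hall : ∀ x : V, (∀ s ∈ St A (u : V), s x = x) ↔ σ x = x := by
        intro x
        exact ⟨fun h => h σ hσ, fun h => fix_of_prime Nat.prime_three h3 hσ hσ1 h⟩
      have h4 : Nat.card {x : V // ∀ s ∈ St A (u : V), s x = x} =
          Nat.card {x : V // σ x = x} := Nat.card_congr (Equiv.subtypeEquivRight hall)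
      rw [h4]
      refine card_fix hV hσ3 hex ?_
      rw [← hW]
      congr 1
      refine Nat.card_congr (Equiv.subtypeEquivRight fun x => ?_)
      rw [← hSeq]
      constructor
      · rintro h _ ⟨s, hs, rfl⟩
        exact Subtype.ext ((hall x).2 h s hs)
      · intro h
        exact congrArg Subtype.val (h (res V σ) ⟨σ, hσ, rfl⟩)
  · -- order five
    rw [← hScard] at h5
    have hp5 : Nat.Prime 5 := by norm_num
    have hfix' : ∀ x : V, x * x = 1 → (∀ s ∈ St A (u : V), s x = x) → x = 1 ∨ x = u := by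
      intro x hx h
      rcases hfix ⟨x, hx⟩ (fun s hs => by
        rw [← hSeq] at hs
        obtain ⟨t, ht, rfl⟩ := hs
        exact Subtype.ext (h t ht)) with h' | h'
      · exact Or.inl (congrArg Subtype.val h')
      · exact Or.inr (congrArg Subtype.val h')
    have hu1' : (u : V) ≠ 1 := fun h => hu1 (Subtype.ext h)
    by_cases hVW : ∀ x : V, x * x = 1
    · have h6 : Nat.card V = 32 := by
        rw [← h32]
        exact Nat.card_congr ⟨fun x => ⟨x, hVW x⟩, fun x => x, fun _ => rfl, fun _ => rfl⟩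
      exact ⟨u, St A (u : V), fun s => Iff.rfl, Or.inr (Or.inr ⟨h5, h6, hVW, hu1',
        fun x hx => hfix' x (hVW x) hx⟩)⟩
    · push Not at hVW
      obtain ⟨y, hyy⟩ := hVW
      obtain ⟨w, -, hw1, hw2⟩ := exists_sq hV (Subgroup.mem_top y) hyy
      by_cases hex : ∃ w : V, w * w ≠ 1 ∧ (w * w) * (w * w) = 1 ∧ w * w ≠ u
      · obtain ⟨w, hw1, hw2, hwu⟩ := hex
        refine hlift w hw2 fun s hs hsw => ?_
        by_contra hs1
        rcases hfix' (w * w) hw2 (fix_of_prime hp5 h5 hs hs1 hsw) with h | h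
        · exact hw1 h
        · exact hwu h
      · push Not at hex
        have hAu : ∀ s ∈ A, s ∈ St A (u : V) := by
          intro s hs
          refine ⟨hs, ?_⟩
          have e1 := hex w hw1 hw2
          rw [← e1, map_mul, e1]
          refine hex (s w) ?_ ?_
          · rw [← map_mul]
            intro h
            exact hw1 (by rw [← map_one s] at h; exact s.injective h)
          · rw [← map_mul, ← map_mul, hw2, map_one]
        obtain ⟨x, hx1, hxu⟩ : ∃ x : Om V, x ≠ 1 ∧ x ≠ u := by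
          by_contra hno
          push Not at hno
          have h7 : Nat.card (Om V) ≤ 2 := by
            have := Fintype.ofFinite (Om V)
            rw [Nat.card_eq_fintype_card, ← Finset.card_univ]
            refine (Finset.card_le_card (t := {1, u}) fun x _ => ?_).trans Finset.card_le_two
            rw [Finset.mem_insert, Finset.mem_singleton]
            by_cases hx : x = 1
            · exact Or.inl hx
            · exact Or.inr (hno x hx)
          omega
        refine ⟨x, St A (x : V), fun s => Iff.rfl, Or.inl ?_⟩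
        rw [Subgroup.card_eq_one, Subgroup.eq_bot_iff_forall]
        intro s hs
        by_contra hs1
        rcases hfix' x x.2 (fix_of_prime hp5 h5 (hAu s hs.1) hs1 hs.2) with h | h
        · exact hx1 (Subtype.ext h)
        · exact hxu (Subtype.ext h)

end Cfsg.Agent.H617.OddActRank
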