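import Mathlib
import Cfsg.Agent.H617.StarAut
import Cfsg.Agent.H617.FiveCore

/-!
# Blocks with defect group `2 ^ 5` and inertial quotient of order five with central fixed point
-/

set_option autoImplicit false
set_option linter.unusedSectionVars false

open Cfsg
open scoped ComplexConjugate

namespace Cfsg.Agent.H617.StarFive

section adj

variable {D : Type*} [Group D]

/-- The subgroup generated by `K` and `x`. -/
def adj (K : Subgroup D) (x : D) (hel : ∀ x : D, x * x = 1) : Subgroup D where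
  carrier := {u | u ∈ K ∨ x * u ∈ K}
  one_mem' := Or.inl K.one_mem
  mul_mem' {u w} hu hw := by
    have hc := FiveCore.comm hel
    rcases hu with hu | hu <;> rcases hw with hw | hw
    · exact Or.inl (K.mul_mem hu hw)
    · refine Or.inr ?_
      have h1 : x * (u * w) = u * (x * w) := by rw [← mul_assoc, hc x u, mul_assoc]
      rw [h1]
      exact K.mul_mem hu hw
    · refine Or.inr ?_
      rw [← mul_assoc]
      exact K.mul_mem hu hw
    · refine Or.inl ?_
      have h1 : u * w = (x * u) * (x * w) := by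
        calc u * w = (x * x) * (u * w) := by rw [hel, one_mul]
          _ = x * (x * u) * w := by group
          _ = x * (u * x) * w := by rw [hc x u]
          _ = (x * u) * (x * w) := by group
      rw [h1]
      exact K.mul_mem hu hw
  inv_mem' {u} hu := by
    have h1 : u⁻¹ = u := inv_eq_of_mul_eq_one_left (hel u)
    change u⁻¹ ∈ K ∨ x * u⁻¹ ∈ K
    rw [h1]
    exact hu

theorem mem_adj {K : Subgroup D} {x : D} {hel : ∀ x : D, x * x = 1} {u : D} :
    u ∈ adj K x hel ↔ u ∈ K ∨ x * u ∈ K := Iff.rfl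

open Classical in
theorem sum_adj [Fintype D] {K : Subgroup D} {x : D} (hel : ∀ x : D, x * x = 1) (hx : x ∉ K)
    (f : D → ℂ) :
    ∑ u : D, (if u ∈ adj K x hel then f u else 0) =
      ∑ u : D, (if u ∈ K then f u + f (x * u) else 0) := by
  have h1 : ∀ u : D, (if u ∈ adj K x hel then f u else 0) =
      (if u ∈ K then f u else 0) + (if x * u ∈ K then f u else 0) := by
    intro u
    by_cases h : u ∈ K
    · have h2 : x * u ∉ K := by
        intro h3
        apply hx
        have h4 := K.mul_mem h3 (K.inv_mem h)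
        rwa [mul_inv_cancel_right] at h4
      rw [if_pos h, if_neg h2, if_pos (mem_adj.2 (Or.inl h)), add_zero]
    · by_cases h2 : x * u ∈ K
      · rw [if_neg h, if_pos h2, if_pos (mem_adj.2 (Or.inr h2)), zero_add]
      · rw [if_neg h, if_neg h2, if_neg, add_zero]
        intro h3
        exact h3.elim h h2
  have h2 : ∑ u : D, (if x * u ∈ K then f u else 0) =
      ∑ u : D, (if u ∈ K then f (x * u) else 0) := by
    refine Fintype.sum_equiv (Equiv.mulLeft x) _ _ fun u => ?_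
    rw [Equiv.coe_mulLeft, ← mul_assoc, hel, one_mul]
  rw [Finset.sum_congr rfl fun u _ => h1 u, Finset.sum_add_distrib, h2, ← Finset.sum_add_distrib]
  refine Finset.sum_congr rfl fun u _ => ?_
  split_ifs
  · rfl
  · rw [add_zero]

open Classical in
theorem sum_adj_three [Fintype D] {v x y : D} (hel : ∀ x : D, x * x = 1) (hv : v ≠ 1)
    (hx1 : x ≠ 1) (hxv : x ≠ v) (hy1 : y ≠ 1) (hyv : y ≠ v) (hxy1 : x * y ≠ 1)
    (hxyv : x * y ≠ v) (f : D → ℂ) :
    ∑ u : D, (if u ∈ adj (adj (adj ⊥ v hel) x hel) y hel then f u else 0) =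
      f 1 + f v + (f x + f (v * x)) + (f y + f (v * y)) + (f (x * y) + f (v * (x * y))) := by
  have hc := FiveCore.comm hel
  have m1 : ∀ u, u ∈ adj ⊥ v hel ↔ u = 1 ∨ u = v := by
    intro u
    rw [mem_adj, Subgroup.mem_bot, Subgroup.mem_bot]
    refine or_congr_right ⟨fun h => ?_, fun h => by rw [h, hel]⟩
    calc u = (v * v) * u := by rw [hel, one_mul]
      _ = v * (v * u) := by group
      _ = v := by rw [h, mul_one]
  have e1 : v ∉ (⊥ : Subgroup D) := fun h => hv (Subgroup.mem_bot.1 h)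
  have e2 : x ∉ adj ⊥ v hel := fun h => ((m1 x).1 h).elim hx1 hxv
  have e3 : y ∉ adj (adj ⊥ v hel) x hel := by
    intro h
    rcases mem_adj.1 h with h | h
    · exact ((m1 y).1 h).elim hy1 hyv
    · exact ((m1 _).1 h).elim hxy1 hxyv
  rw [sum_adj hel e3, sum_adj hel e2, sum_adj hel e1]
  simp only [Subgroup.mem_bot]
  rw [Finset.sum_ite_eq' Finset.univ (1 : D), if_pos (Finset.mem_univ _)]
  simp only [mul_one]
  rw [hc y x, hc x v, hc y v, hc y (v * x), hc v (x * y), mul_assoc v x y, hc v (x * y)]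
  ring

theorem index_adj_three [Finite D] {v x y : D} (hel : ∀ x : D, x * x = 1) (hv : v ≠ 1)
    (hx1 : x ≠ 1) (hxv : x ≠ v) (hy1 : y ≠ 1) (hyv : y ≠ v) (hxy1 : x * y ≠ 1)
    (hxyv : x * y ≠ v) (hcard : Nat.card D = 32) :
    (adj (adj (adj ⊥ v hel) x hel) y hel).index = 4 := by
  classical
  have := Fintype.ofFinite D
  have h1 := sum_adj_three hel hv hx1 hxv hy1 hyv hxy1 hxyv (fun _ => 1)
  rw [← Finset.sum_filter, Finset.sum_const, nsmul_eq_mul, mul_one] at h1
  have h2 : (Nat.card (adj (adj (adj ⊥ v hel) x hel) y hel) : ℂ) = 8 := by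
    rw [Nat.card_eq_fintype_card, Fintype.card_subtype, h1]
    norm_num
  have h3 : Nat.card (adj (adj (adj ⊥ v hel) x hel) y hel) = 8 := by exact_mod_cast h2
  have h4 := Subgroup.card_mul_index (adj (adj (adj ⊥ v hel) x hel) y hel)
  rw [h3, hcard] at h4
  omega

end adj

open Cfsg.Agent.H651 Cfsg.Agent.H649 Cfsg.Agent.Characters
open Cfsg.Agent.H652.DoubleCount Cfsg.Agent.H645.FusCount Cfsg.Agent.H650
open Cfsg.Agent.H645.TraceForm Cfsg.Agent.H645.LocMono Cfsg.Agent.H645.Watanabe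
open Cfsg.Agent.H652.Ctr Cfsg.Agent.H652.CtrOne Cfsg.Agent.H613.RegGram
open Cfsg.Agent.H613.Contrib Cfsg.Agent.H613.ContribVal Cfsg.Agent.H644.CentralQuot
open Cfsg.Agent.H617.AbelRank Cfsg.Agent.H617.RankOneCol Cfsg.Agent.H617.StarCols
open Cfsg.Agent.H617.StarAut

universe u

variable {G : Type u} [Group G] [Fintype G]

section sign

variable {v : G} (hvv : v * v = 1) (hvc : ∀ g : G, v * g = g * v)

include hvv hvc

theorem zpowers_le_center : Subgroup.zpowers v ≤ Subgroup.center G := by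
  rw [Subgroup.zpowers_le, Subgroup.mem_center_iff]
  exact fun g => (hvc g).symm

/-- The sign of an irreducible character at the central involution. -/
theorem exists_sign (hU : (Subgroup.zpowers v).Normal) (ψ : IrrCharacter G) :
    ∃ ε : ℤ, (ε = 1 ∨ ε = -1) ∧ (∀ g, (ψ : G → ℂ) (v * g) = ε * (ψ : G → ℂ) g) ∧
      (ε = 1 → ∃ θ, infl (Subgroup.zpowers v) θ = ψ) := by
  classical
  have hcen := zpowers_le_center hvv hvc
  have hψ1 : (ψ : G → ℂ) 1 ≠ 0 := Core.isIrr_apply_one_ne_zero ψ.2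
  obtain ⟨c, hc⟩ := exists_scalar_center ψ (hcen (Subgroup.mem_zpowers v))
  have hc' : ∀ g, (ψ : G → ℂ) (v * g) = c * (ψ : G → ℂ) g := fun g => by rw [hvc, hc]
  have hc2 : c ^ 2 = 1 := by
    have h1 := hc' (v * 1)
    rw [← mul_assoc, hvv, one_mul, hc'] at h1
    have h2 : (c ^ 2 - 1) * (ψ : G → ℂ) 1 = 0 := by linear_combination -h1
    rcases mul_eq_zero.1 h2 with h3 | h3
    · linear_combination h3
    · exact absurd h3 hψ1
  rcases sq_eq_one_iff_of_side hc2 with h | h
  · refine ⟨1, Or.inl rfl, fun g => by rw [hc', h, Int.cast_one], fun _ => ?_⟩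
    by_contra hno
    have := Fintype.ofFinite (Subgroup.zpowers v)
    have h1 := sum_coset hcen ψ 1
    rw [if_neg hno] at h1
    have h2 : ∀ z : Subgroup.zpowers v, (ψ : G → ℂ) (1 * (z : G)) = (ψ : G → ℂ) 1 := by
      rintro ⟨_, k, rfl⟩
      change (ψ : G → ℂ) (1 * v ^ k) = _
      have h3 : ∀ n : ℕ, (ψ : G → ℂ) (v ^ n) = (ψ : G → ℂ) 1 := by
        intro n
        induction n with
        | zero => rw [pow_zero]
        | succ n ih => rw [pow_succ', hc', ih, h, one_mul]
      have hfin : IsOfFinOrder v := isOfFinOrder_of_finite v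
      obtain ⟨n, hn⟩ := (hfin.mem_powers_iff_mem_zpowers).2 ⟨k, rfl⟩
      have hn' : v ^ n = v ^ k := hn
      rw [one_mul, ← hn', h3]
    rw [Finset.sum_congr rfl fun z _ => h2 z, Finset.sum_const, nsmul_eq_mul] at h1
    rcases mul_eq_zero.1 h1 with h3 | h3
    · rw [Nat.cast_eq_zero, Finset.card_univ] at h3
      exact Fintype.card_ne_zero h3
    · exact hψ1 h3
  · refine ⟨-1, Or.inr rfl, fun g => by rw [hc', h]; push_cast; ring, fun h' => ?_⟩
    norm_num at h'

theorem infl_mul (hU : (Subgroup.zpowers v).Normal) (θ : IrrCharacter (G ⧸ Subgroup.zpowers v))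
    (g : G) : (infl (Subgroup.zpowers v) θ : G → ℂ) (v * g) =
      (infl (Subgroup.zpowers v) θ : G → ℂ) g := by
  rw [infl_apply, infl_apply]
  refine congrArg (θ : G ⧸ Subgroup.zpowers v → ℂ) (QuotientGroup.eq.2 ?_)
  have h1 : (v * g)⁻¹ * g = v := by
    rw [hvc]
    have h2 : v⁻¹ = v := inv_eq_of_mul_eq_one_left hvv
    rw [mul_inv_rev, h2, mul_assoc, inv_mul_cancel, mul_one]
  rw [h1]
  exact Subgroup.mem_zpowers v

/-- The sum over the inflated characters. -/
theorem sum_defl (hU : (Subgroup.zpowers v).Normal) {B : Set (IrrCharacter G)} [Fintype B]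
    [Fintype (defl (Subgroup.zpowers v) B)] {ε : IrrCharacter G → ℤ}
    (h1 : ∀ ψ, ε ψ = 1 ∨ ε ψ = -1)
    (h2 : ∀ (ψ : IrrCharacter G) (g : G), (ψ : G → ℂ) (v * g) = ε ψ * (ψ : G → ℂ) g)
    (h3 : ∀ ψ, ε ψ = 1 → ∃ θ, infl (Subgroup.zpowers v) θ = ψ) (F : IrrCharacter G → ℤ) :
    2 * ∑ θ : defl (Subgroup.zpowers v) B, F (infl (Subgroup.zpowers v) θ) =
      ∑ ψ : B, F ψ + ∑ ψ : B, ε ψ * F ψ := by
  have hinf : ∀ θ, ε (infl (Subgroup.zpowers v) θ) = 1 := by
    intro θ
    have e1 := h2 (infl (Subgroup.zpowers v) θ) 1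
    rw [infl_mul hvv hvc hU] at e1
    have e2 := Core.isIrr_apply_one_ne_zero (infl (Subgroup.zpowers v) θ).2
    rcases h1 (infl (Subgroup.zpowers v) θ) with h | h
    · exact h
    · exfalso
      rw [h] at e1
      apply e2
      push_cast at e1
      linear_combination e1 / 2
  rw [Finset.mul_sum, ← Finset.sum_add_distrib]
  refine Fintype.sum_of_injective (fun θ : defl (Subgroup.zpowers v) B =>
    (⟨infl (Subgroup.zpowers v) θ, θ.2⟩ : B)) ?_ _ _ ?_ ?_
  · intro θ θ' h
    exact Subtype.ext (infl_injective _ (congrArg Subtype.val h))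
  · intro ψ hψ
    rcases h1 ψ with h | h
    · exfalso
      apply hψ
      obtain ⟨θ, hθ⟩ := h3 ψ h
      refine ⟨⟨θ, ?_⟩, Subtype.ext hθ⟩
      rw [mem_defl, hθ]
      exact ψ.2
    · rw [h]
      ring
  · intro θ
    change 2 * F (infl (Subgroup.zpowers v) θ) = F (infl (Subgroup.zpowers v) θ) +
      ε (infl (Subgroup.zpowers v) θ) * F (infl (Subgroup.zpowers v) θ)
    rw [hinf]
    ring

end sign

section main

variable {M : Ideal AlgInt} [M.IsPrime] (hM : IsPModular 2 M) {B : Set (IrrCharacter G)}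
  {a : BrauerPairIdx G} (hmax : IsMaximalBrauerPair 2 M B a.1 a.2)

include hM hmax

/-- **The local theorem**. -/
theorem five_local (hel : ∀ x ∈ a.1, x * x = 1) (hcard : Nat.card a.1 = 32)
    (hidx : (Subgroup.centralizer (a.1 : Set G)).relIndex (stab a) = 5) {v : G} (hv : v ∈ a.1)
    (hv1 : v ≠ 1) (hvc : ∀ g : G, v * g = g * v)
    (hfix : ∀ w ∈ a.1, (∀ t ∈ stab a, t * w * t⁻¹ = w) → w = 1 ∨ w = v)
    (hU : (Subgroup.zpowers v).Normal) [Fintype (defl (Subgroup.zpowers v) B)] :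
    ∃ r : defl (Subgroup.zpowers v) B → defl (Subgroup.zpowers v) B → ℤ,
      (∀ θ θ', (r θ θ' : ℂ) = 32 * rg 2 (infl (Subgroup.zpowers v) θ : G → ℂ)
        (infl (Subgroup.zpowers v) θ' : G → ℂ)) ∧
      ∀ z : defl (Subgroup.zpowers v) B → ℤ, Odd (∑ χ, ∑ ψ, z χ * z ψ * r χ ψ) →
        blockRank 2 B ≤ 5 ∧ (∑ χ, ∑ ψ, z χ * z ψ * r χ ψ) % 8 = 5 := by
  classical
  have hvv : v * v = 1 := hel v hv
  have hab : ∀ x ∈ a.1, ∀ y ∈ a.1, x * y = y * x := by
    intro x hx y hy
    have h1 := hel (x * y) (a.1.mul_mem hx hy)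
    have h2 : (x * y) * (y * x) = 1 := by
      calc (x * y) * (y * x) = x * (y * y) * x := by group
        _ = 1 := by rw [hel y hy, mul_one, hel x hx]
    exact mul_left_cancel (h1.trans h2.symm)
  have := Core.finite_irr (G := G)
  have := Fintype.ofFinite a.1
  have : Fintype B := Fintype.ofFinite _
  have hel' : ∀ x : a.1, x * x = 1 := fun x => Subtype.ext (hel x x.2)
  -- the automorphism
  have hcA : Nat.card (autG a) = 5 := by rw [card_autG hM hmax hab, hidx]
  obtain ⟨τ, hτ⟩ : ∃ τ, autG a = Subgroup.zpowers τ := by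
    have hF : Fact (Nat.Prime 5) := ⟨by norm_num⟩
    have hcyc : IsCyclic (autG a) := isCyclic_of_prime_card hcA
    exact (Subgroup.isCyclic_iff_exists_zpowers_eq_top (autG a)).1 hcyc |>.imp fun _ h => h.symm
  have h5 : τ ^ 5 = 1 := by
    rw [← hcA, hτ, Nat.card_zpowers, pow_orderOf_eq_one]
  have hfx := fixed_iff hM hmax hab hτ h5
  set v' : a.1 := ⟨v, hv⟩ with hv'
  have hv'1 : v' ≠ 1 := fun h => hv1 (congrArg Subtype.val h)
  have hτv : τ v' = v' := (hfx v').2 fun t _ => by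
    change t * v * t⁻¹ = v
    rw [← hvc]
    group
  have hfix' : ∀ x : a.1, τ x = x → x = 1 ∨ x = v' := by
    intro x hx
    rcases hfix x x.2 ((hfx x).1 hx) with h | h
    · exact Or.inl (Subtype.ext h)
    · exact Or.inr (Subtype.ext h)
  have hmoved : ∀ x : a.1, x ≠ 1 → x ≠ v' → τ x ≠ x := fun x h1 h2 h3 =>
    (hfix' x h3).elim h1 h2
  have hτinj : ∀ x : a.1, τ x ≠ x → τ (τ x) ≠ τ x := fun x h1 h2 => h1 (τ.injective h2)
  have hvmoved : ∀ x : a.1, τ x ≠ x → τ (v' * x) ≠ v' * x := by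
    intro x h1 h2
    rw [map_mul, hτv] at h2
    exact h1 (mul_left_cancel h2)
  -- the columns
  have hcol : ∀ u : a.1, ∃ w : IrrCharacter G → ℤ, τ u ≠ u → ∀ χ ψ : IrrCharacter G,
      (32 : ℂ) * ctr 2 (u : G) (bP 2 M a (u : G)) (χ : G → ℂ) (ψ : G → ℂ) = w χ * w ψ := by
    intro u
    by_cases hu : τ u = u
    · exact ⟨0, fun h => absurd hu h⟩
    · obtain ⟨w, hw⟩ := exists_col hM hmax hab u.2 (hel u u.2)
        (rank_one_of_prime hM hmax hab (by norm_num) hidx u.2 (fun h => hu ((hfx u).2 h)))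
      rw [hcard] at hw
      exact ⟨w, fun _ χ ψ => by rw [← hw χ ψ]; norm_num⟩
  choose W hW using hcol
  choose ε hε1 hε2 hε3 using exists_sign hvv hvc hU
  have hWτ : ∀ u : a.1, τ u ≠ u → ∀ χ ψ : IrrCharacter G,
      W (τ u) χ * W (τ u) ψ = W u χ * W u ψ := by
    intro u hu χ ψ
    have h1 := hW u hu χ ψ
    have h2 := hW (τ u) (hτinj u hu) χ ψ
    rw [ctr_aut hM hmax hab hτ h5 u (Core.isIrr_isClassFunction χ.2)
      (Core.isIrr_isClassFunction ψ.2), h1] at h2
    exact_mod_cast h2.symm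
  have hWv : ∀ u : a.1, τ u ≠ u → ∀ χ ψ : IrrCharacter G,
      W (v' * u) χ * W (v' * u) ψ = ε χ * ε ψ * (W u χ * W u ψ) := by
    intro u hu χ ψ
    have h1 := hW u hu χ ψ
    have h2 := hW (v' * u) (hvmoved u hu) χ ψ
    have h3 := ctr_central_mul hM hmax hab hv hvc u.2 (hε2 χ) (hε2 ψ)
    change (32 : ℂ) * ctr 2 (v * (u : G)) (bP 2 M a (v * (u : G))) (χ : G → ℂ) (ψ : G → ℂ) = _ at h2
    rw [h3, map_intCast] at h2
    have h4 : ((W (v' * u) χ * W (v' * u) ψ : ℤ) : ℂ) =
        ((ε χ * ε ψ * (W u χ * W u ψ) : ℤ) : ℂ) := by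
      push_cast
      rw [← h1, ← h2]
      ring
    exact_mod_cast h4
  have hnz : ∀ u : a.1, τ u ≠ u → ∀ χ : IrrCharacter G, χ ∈ B → W u χ ≠ 0 := by
    intro u hu χ hχ h0
    have h1 := hW u hu χ χ
    rw [h0, Int.cast_zero, zero_mul] at h1
    rcases mul_eq_zero.1 h1 with h2 | h2
    · norm_num at h2
    · exact ctr_self_ne_zero hM hmax hab u.2 hχ h2
  obtain ⟨χ₀, hχ₀⟩ := Cfsg.Agent.Blocks.Basic.isPBlock_nonempty hmax.1.2.1
  have horth : ∀ u u' : a.1, τ u ≠ u → τ u' ≠ u' → (∀ i < 5, (τ ^ i) u ≠ u') →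
      ∑ ψ : B, W u ψ * W u' ψ = 0 := by
    intro u u' hu hu' hne
    have h1 := orth_ctr hM hmax hab hτ h5 hidx hu hu' hne hχ₀ hχ₀
    have h2 : ∑ ψ : B, (((W u χ₀ * W u' χ₀) * (W u ψ * W u' ψ) : ℤ) : ℂ) = 0 := by
      rw [← mul_zero ((32 : ℂ) * 32), ← h1, Finset.mul_sum]
      refine Finset.sum_congr rfl fun ψ _ => ?_
      have e1 := hW u hu χ₀ ψ
      have e2 := congrArg conj (hW u' hu' χ₀ ψ)
      rw [map_mul, map_mul, map_intCast, map_intCast, map_ofNat] at e2
      push_cast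
      linear_combination (-(W u' χ₀ : ℂ) * W u' ψ) * e1 -
        (32 * ctr 2 (u : G) (bP 2 M a (u : G)) (χ₀ : G → ℂ) ((ψ : IrrCharacter G) : G → ℂ)) * e2
    have h3 : (W u χ₀ * W u' χ₀) * ∑ ψ : B, W u ψ * W u' ψ = 0 := by
      rw [Finset.mul_sum]
      exact_mod_cast h2
    rcases mul_eq_zero.1 h3 with h4 | h4
    · exact absurd h4 (mul_ne_zero (hnz u hu χ₀ hχ₀) (hnz u' hu' χ₀ hχ₀))
    · exact h4
  have hnormB : ∀ u : a.1, τ u ≠ u → ∑ ψ : B, W u ψ * W u ψ = 32 := by
    intro u hu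
    have h1 := sum_ctr_self hM hmax u.2
    rw [rank_one_of_prime hM hmax hab (by norm_num) hidx u.2 (fun h => hu ((hfx u).2 h))] at h1
    have h2 : ∑ ψ : B, ((W u ψ * W u ψ : ℤ) : ℂ) = 32 := by
      have h3 : (32 : ℂ) = 32 * ((1 : ℕ) : ℂ) := by norm_num
      rw [h3, ← h1, Finset.mul_sum]
      refine Finset.sum_congr rfl fun ψ _ => ?_
      rw [hW u hu ψ ψ]
      push_cast
      rfl
    exact_mod_cast h2
  have hsgn : ∀ u u' : a.1, τ u ≠ u → τ u' ≠ u' → (∀ i < 5, (τ ^ i) (v' * u) ≠ u') →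
      ∑ ψ : B, ε ψ * (W u ψ * W u' ψ) = 0 := by
    intro u u' hu hu' hne
    have h1 := horth (v' * u) u' (hvmoved u hu) hu' hne
    have h2 : (ε χ₀ * W u χ₀) * ∑ ψ : B, ε ψ * (W u ψ * W u' ψ) = 0 := by
      rw [← mul_zero (W (v' * u) χ₀), ← h1, Finset.mul_sum, Finset.mul_sum]
      refine Finset.sum_congr rfl fun ψ _ => ?_
      have h3 := hWv u hu χ₀ ψ
      linear_combination (-W u' ψ) * h3
    rcases mul_eq_zero.1 h2 with h4 | h4
    · exfalso
      rcases mul_eq_zero.1 h4 with h5' | h5'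
      · rcases hε1 χ₀ with h6 | h6 <;> rw [h6] at h5' <;> norm_num at h5'
      · exact hnz u hu χ₀ hχ₀ h5'
    · exact h4
  have hdefl := fun F : IrrCharacter G → ℤ => sum_defl hvv hvc hU (B := B) hε1 hε2 hε3 F
  -- the Gram matrix
  have hr : ∀ θ θ' : defl (Subgroup.zpowers v) B, ∃ k : ℤ,
      (k : ℂ) = 32 * rg 2 (infl (Subgroup.zpowers v) θ : G → ℂ)
        (infl (Subgroup.zpowers v) θ' : G → ℂ) := by
    intro θ θ'
    obtain ⟨k, hk⟩ := exists_int_rg (p := 2) hM (B := B)
      (ξ := infl (Subgroup.zpowers v) (θ : IrrCharacter (G ⧸ Subgroup.zpowers v)))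
      (mem_defl.1 θ.2) (infl (Subgroup.zpowers v) (θ' : IrrCharacter (G ⧸ Subgroup.zpowers v)))
    refine ⟨k, ?_⟩
    have h1 := pow_blockDefect' hM hmax hab
    rw [hcard] at h1
    have h2 : ((2 : ℕ) : ℂ) ^ blockDefect 2 B = 32 := by exact_mod_cast h1
    rw [← hk, h2]
  choose r hr using hr
  have hc1 : ∀ θ θ' : defl (Subgroup.zpowers v) B,
      ctr 2 (((1 : a.1) : G)) (bP 2 M a ((1 : a.1) : G))
        (infl (Subgroup.zpowers v) θ : G → ℂ) (infl (Subgroup.zpowers v) θ' : G → ℂ) =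
      rg 2 (infl (Subgroup.zpowers v) θ : G → ℂ) (infl (Subgroup.zpowers v) θ' : G → ℂ) :=
    fun θ θ' => ctr_one hM hmax hab θ.2 _
  have hcv : ∀ (u : a.1) (θ θ' : defl (Subgroup.zpowers v) B),
      ctr 2 (((v' * u : a.1) : G)) (bP 2 M a ((v' * u : a.1) : G))
        (infl (Subgroup.zpowers v) θ : G → ℂ) (infl (Subgroup.zpowers v) θ' : G → ℂ) =
      ctr 2 ((u : G)) (bP 2 M a (u : G))
        (infl (Subgroup.zpowers v) θ : G → ℂ) (infl (Subgroup.zpowers v) θ' : G → ℂ) := by
    intro u θ θ'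
    have h1 := ctr_central_mul hM hmax hab hv hvc u.2
      (χ := (infl (Subgroup.zpowers v) θ : G → ℂ)) (ψ := (infl (Subgroup.zpowers v) θ' : G → ℂ))
      (ε := 1) (δ := 1) (fun g => by rw [infl_mul hvv hvc hU, one_mul])
      (fun g => by rw [infl_mul hvv hvc hU, one_mul])
    rw [map_one, one_mul, one_mul] at h1
    exact h1
  have hcv1 : ∀ θ θ' : defl (Subgroup.zpowers v) B,
      ctr 2 ((v' : G)) (bP 2 M a (v' : G))
        (infl (Subgroup.zpowers v) θ : G → ℂ) (infl (Subgroup.zpowers v) θ' : G → ℂ) =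
      rg 2 (infl (Subgroup.zpowers v) θ : G → ℂ) (infl (Subgroup.zpowers v) θ' : G → ℂ) := by
    intro θ θ'
    have h1 := hcv 1 θ θ'
    rw [mul_one, hc1] at h1
    exact h1
  have hne5 : ∀ u : a.1, τ u ≠ u → ∀ i < 5, (τ ^ i) (v' * u) ≠ u := by
    intro u hu i hi h
    have h1 : ∀ i : ℕ, (τ ^ i) v' = v' := by
      intro i
      induction i with
      | zero => rfl
      | succ n ih => rw [pow_succ', MulAut.mul_apply, ih, hτv]
    rw [map_mul, h1] at h
    have h2 : (τ ^ i) u = v' * u := by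
      calc (τ ^ i) u = (v' * v') * (τ ^ i) u := by rw [hel', one_mul]
        _ = v' * (v' * (τ ^ i) u) := by group
        _ = v' * u := by rw [h]
    have h3 : (τ ^ (i + i)) u = u := by
      rw [pow_add, MulAut.mul_apply, h2, map_mul, h1, h]
    rw [pow_mod h5] at h3
    have hs : ∀ n : ℕ, (τ ^ n) u = u → ∀ m : ℕ, (τ ^ (n * m)) u = u := by
      intro n hn m
      induction m with
      | zero => rw [mul_zero, pow_zero]; rfl
      | succ m ih => rw [Nat.mul_succ, pow_add, MulAut.mul_apply, hn, ih]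
    have hgo : ∀ n m : ℕ, (τ ^ n) u = u → n * m % 5 = 1 → False := by
      intro n m hn hm
      have e1 := hs n hn m
      rw [pow_mod h5, hm, pow_one] at e1
      exact hu e1
    interval_cases i
    · rw [pow_zero] at h2
      have h4 : v' = 1 := by
        have h5' : (1 : a.1) * u = v' * u := by rw [one_mul]; exact h2
        exact (mul_right_cancel h5').symm
      exact hv'1 h4
    · exact hgo 2 3 h3 (by norm_num)
    · exact hgo 4 4 h3 (by norm_num)
    · exact hgo 1 1 h3 (by norm_num)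
    · exact hgo 3 2 h3 (by norm_num)
  have hsplit : ∀ f : a.1 → ℂ, ∑ u : a.1, f u = f 1 + f v' +
      ∑ u ∈ Finset.univ.filter (fun u : a.1 => u ≠ 1 ∧ u ≠ v'), f u := by
    intro f
    rw [← Finset.sum_filter_add_sum_filter_not Finset.univ (fun u : a.1 => u ≠ 1 ∧ u ≠ v') f,
      add_comm]
    congr 1
    have h1 : (Finset.univ.filter fun u : a.1 => ¬ (u ≠ 1 ∧ u ≠ v')) = {1, v'} := by
      ext u
      simp only [Finset.mem_filter, Finset.mem_univ, true_and, Finset.mem_insert,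
        Finset.mem_singleton]
      tauto
    rw [h1, Finset.sum_pair hv'1.symm]
  have hyp : FiveCore.Hyp τ v' (fun u (θ : defl (Subgroup.zpowers v) B) =>
      W u (infl (Subgroup.zpowers v) θ)) r := by
    refine
      { hel := hel'
        hcard := hcard
        h5 := h5
        hv1 := hv'1
        hτv := hτv
        hfix := hfix'
        wτ := fun u χ ψ h1 h2 => hWτ u (hmoved u h1 h2) _ _
        wv := ?_
        line := ?_
        tot := ?_
        norm := ?_
        orth := ?_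
        nz := fun u χ h1 h2 => hnz u (hmoved u h1 h2) _ χ.2 }
    · intro u χ ψ h1 h2
      have e1 := hW u (hmoved u h1 h2) (infl (Subgroup.zpowers v) χ) (infl (Subgroup.zpowers v) ψ)
      have e2 := hW (v' * u) (hvmoved u (hmoved u h1 h2)) (infl (Subgroup.zpowers v) χ)
        (infl (Subgroup.zpowers v) ψ)
      rw [hcv, e1] at e2
      exact_mod_cast e2.symm
    · intro x y χ ψ hx1 hxv hy1 hyv hxy1 hxyv
      obtain ⟨n, hn⟩ := int_ann hM hmax hab hτ h5 hidx
        (adj (adj (adj ⊥ v' hel') x hel') y hel') (infl (Subgroup.zpowers v) χ)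
        (infl (Subgroup.zpowers v) ψ)
      rw [index_adj_three hel' hv'1 hx1 hxv hy1 hyv hxy1 hxyv hcard] at hn
      have h2 := sum_adj_three hel' hv'1 hx1 hxv hy1 hyv hxy1 hxyv (fun u : a.1 =>
        ((4 : ℕ) : ℂ) * ((if τ u = u then (5 : ℂ) else 1) * ctr 2 (u : G) (bP 2 M a (u : G))
            (infl (Subgroup.zpowers v) χ : G → ℂ) (infl (Subgroup.zpowers v) ψ : G → ℂ)))
      have h3 : ∀ u : a.1, (if u ∈ adj (adj (adj ⊥ v' hel') x hel') y hel' then
          ((4 : ℕ) : ℂ) * ((if τ u = u then (5 : ℂ) else 1) * ctr 2 (u : G) (bP 2 M a (u : G))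
            (infl (Subgroup.zpowers v) χ : G → ℂ) (infl (Subgroup.zpowers v) ψ : G → ℂ)) else 0) =
          (if u ∈ adj (adj (adj ⊥ v' hel') x hel') y hel' then ((4 : ℕ) : ℂ) else 0) *
            ((if τ u = u then (5 : ℂ) else 1) * ctr 2 (u : G) (bP 2 M a (u : G))
            (infl (Subgroup.zpowers v) χ : G → ℂ) (infl (Subgroup.zpowers v) ψ : G → ℂ)) := by
        intro u
        split_ifs <;> ring
      rw [Finset.sum_congr rfl fun u _ => h3 u, hn] at h2
      have mx := hmoved x hx1 hxv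
      have my := hmoved y hy1 hyv
      have mxy := hmoved (x * y) hxy1 hxyv
      simp only [if_pos (map_one τ), if_pos hτv, if_neg mx, if_neg my, if_neg mxy,
        if_neg (hvmoved x mx), if_neg (hvmoved y my), if_neg (hvmoved (x * y) mxy), hc1, hcv1,
        hcv] at h2
      refine ⟨n, ?_⟩
      have e1 := hW x mx (infl (Subgroup.zpowers v) χ) (infl (Subgroup.zpowers v) ψ)
      have e2 := hW y my (infl (Subgroup.zpowers v) χ) (infl (Subgroup.zpowers v) ψ)
      have e3 := hW (x * y) mxy (infl (Subgroup.zpowers v) χ) (infl (Subgroup.zpowers v) ψ)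
      have h4 : ((5 * r χ ψ + (W x (infl (Subgroup.zpowers v) χ) *
          W x (infl (Subgroup.zpowers v) ψ) + W y (infl (Subgroup.zpowers v) χ) *
          W y (infl (Subgroup.zpowers v) ψ) + W (x * y) (infl (Subgroup.zpowers v) χ) *
          W (x * y) (infl (Subgroup.zpowers v) ψ)) : ℤ) : ℂ) = ((4 * n : ℤ) : ℂ) := by
        simp only [Nat.cast_ofNat] at h2
        simp only [Int.cast_add, Int.cast_mul, Int.cast_ofNat]
        rw [← e1, ← e2, ← e3, hr, h2]
        ring
      exact_mod_cast h4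
    · intro χ ψ
      have h1 := tot hM hmax hab hτ h5 hidx (χ := infl (Subgroup.zpowers v) χ)
        (ψ := infl (Subgroup.zpowers v) ψ) χ.2
      rw [hsplit, if_pos (map_one τ), if_pos hτv, hc1, hcv1] at h1
      have h2 : ∑ u ∈ Finset.univ.filter (fun u : a.1 => u ≠ 1 ∧ u ≠ v'),
          ((if τ u = u then (5 : ℂ) else 1) * ctr 2 (u : G) (bP 2 M a (u : G))
            (infl (Subgroup.zpowers v) χ : G → ℂ) (infl (Subgroup.zpowers v) ψ : G → ℂ)) * 32 =
          ∑ u ∈ Finset.univ.filter (fun u : a.1 => u ≠ 1 ∧ u ≠ v'),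
            ((W u (infl (Subgroup.zpowers v) χ) * W u (infl (Subgroup.zpowers v) ψ) : ℤ) : ℂ) := by
        refine Finset.sum_congr rfl fun u hu => ?_
        have hu' := (Finset.mem_filter.1 hu).2
        have e1 := hmoved u hu'.1 hu'.2
        rw [if_neg e1, one_mul]
        push_cast
        rw [← hW u e1]
        ring
      have h3 : (infl (Subgroup.zpowers v) (χ : IrrCharacter (G ⧸ Subgroup.zpowers v)) =
          infl (Subgroup.zpowers v) ψ) ↔ χ = ψ :=
        ⟨fun h => Subtype.ext (infl_injective _ h), fun h => by rw [h]⟩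
      rw [← Finset.sum_mul] at h2
      have h4 : ((if χ = ψ then (160 : ℤ) else 0 : ℤ) : ℂ) = ((10 * r χ ψ +
          ∑ u ∈ Finset.univ.filter (fun u : a.1 => u ≠ 1 ∧ u ≠ v'),
            W u (infl (Subgroup.zpowers v) χ) * W u (infl (Subgroup.zpowers v) ψ) : ℤ) : ℂ) := by
        have h5' : (if infl (Subgroup.zpowers v) (χ : IrrCharacter (G ⧸ Subgroup.zpowers v)) =
            infl (Subgroup.zpowers v) ψ then (5 : ℂ) else 0) = if χ = ψ then (5 : ℂ) else 0 := by
          by_cases h : χ = ψ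
          · rw [if_pos h, if_pos (h3.2 h)]
          · rw [if_neg h, if_neg (fun h' => h (h3.1 h'))]
        rw [h5'] at h1
        push_cast
        push_cast at h2
        rw [← h2, hr]
        have h6 : (if χ = ψ then (160 : ℂ) else 0) = 32 * (if χ = ψ then (5 : ℂ) else 0) := by
          split_ifs <;> norm_num
        rw [h6, h1]
        ring
      exact_mod_cast h4
    · intro u h1 h2
      have hu := hmoved u h1 h2
      have h3 := hdefl (fun ψ => W u ψ * W u ψ)
      rw [hnormB u hu, hsgn u u hu hu (hne5 u hu)] at h3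
      linarith
    · intro u u' h1 h2 h3 h4 h5'
      have hu := hmoved u h1 h2
      have hu' := hmoved u' h3 h4
      have h6 := hdefl (fun ψ => W u ψ * W u' ψ)
      have h7 : ∀ i : ℕ, (τ ^ i) v' = v' := by
        intro i
        induction i with
        | zero => rfl
        | succ n ih => rw [pow_succ', MulAut.mul_apply, ih, hτv]
      rw [horth u u' hu hu' (fun i hi => (h5' i hi).1), hsgn u u' hu hu' (fun i hi => by
        rw [map_mul, h7]; exact (h5' i hi).2)] at h6
      linarith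
  refine ⟨r, hr, fun z hz => ⟨?_, hyp.form_mod z hz⟩⟩
  refine hyp.rank_le (l := blockRank 2 B) ?_ z hz
  -- the trace
  have := Fintype.ofFinite (G ⧸ Subgroup.zpowers v)
  have hcen := zpowers_le_center hvv hvc
  have hpU : IsPGroup 2 (Subgroup.zpowers v) := by
    refine IsPGroup.of_card (n := 1) ?_
    rw [Nat.card_zpowers, pow_one]
    exact orderOf_eq_prime (by rw [pow_two, hvv]) hv1
  have hcU : (Nat.card (Subgroup.zpowers v) : ℂ) = 2 := by
    rw [Nat.card_zpowers, orderOf_eq_prime (by rw [pow_two, hvv]) hv1]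
    norm_num
  have h1 := sum_rg_self hM (isPBlock_defl hM hcen hpU hmax.1.2.1)
  rw [blockRank_defl hM hcen hpU hmax.1.2.1] at h1
  have h2 : ((∑ χ, r χ χ : ℤ) : ℂ) = ((16 * (blockRank 2 B : ℤ) : ℤ) : ℂ) := by
    push_cast
    rw [← h1, Finset.mul_sum]
    refine Finset.sum_congr rfl fun θ _ => ?_
    rw [hr, rg_infl hcen hpU, hcU]
    ring
  exact_mod_cast h2

end main

end Cfsg.Agent.H617.StarFive
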